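import Cfsg.Agent.Lib.BrauerTuan.SeventyNineTwenty
import Cfsg.Agent.Lib.BrauerTuan.SeventyNineTwentyInvolution
import Cfsg.Agent.Lib.UThreeUnique.Block
import Cfsg.Agent.Lib.Char.Table
import Cfsg.Agent.Lib.Char.CMValue
import Cfsg.Agent.Lib.Char.OddDegreeSum

/-!
# Simple groups of order 95040: tools on character values
-/

set_option autoImplicit false
set_option linter.unusedSectionVars false
set_option linter.style.haveILetI false

namespace CfsgLib.M12Order

open Cfsg
open scoped ComplexConjugate CfsgLib.Char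
open CfsgLib
open scoped _root_.Classical

universe u

variable {G : Type u} [Group G] [Fintype G]

/-- The sum of a character over a subgroup is a natural multiple of its order. -/
theorem exists_nat_sum_subgroup {φ : G → ℂ} (hφ : IsCharacter G φ) (P : Subgroup G) :
    ∃ K : ℕ, ∑ w : P, φ (w : G) = (Nat.card P : ℂ) * K := by
  obtain ⟨K, hK⟩ := Char.exists_nat_classInner (Char.isCharacter_restrict P hφ)
    (Char.isCharacter_one (G := P))
  refine ⟨K, ?_⟩
  simp only [classInner, map_one, mul_one] at hK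
  rw [inv_mul_eq_iff_eq_mul₀ (Nat.cast_ne_zero.mpr Nat.card_pos.ne')] at hK
  exact hK

/-- The sum of the squares of a rational character over a subgroup is a multiple of its order. -/
theorem exists_nat_sq_sum_subgroup {φ : G → ℂ} (hφ : IsCharacter G φ) (P : Subgroup G) :
    ∃ K : ℕ, ∑ w : P, φ (w : G) * conj (φ (w : G)) = (Nat.card P : ℂ) * K := by
  obtain ⟨K, hK⟩ := Char.exists_nat_classInner (Char.isCharacter_restrict P hφ)
    (Char.isCharacter_restrict P hφ)
  refine ⟨K, ?_⟩
  simp only [classInner] at hK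
  rw [inv_mul_eq_iff_eq_mul₀ (Nat.cast_ne_zero.mpr Nat.card_pos.ne')] at hK
  exact hK

/-- The central character of an integer value. -/
theorem omega_dvd {χ : IrrCharacter G} {g : G} {a : ℤ} (h : (χ : G → ℂ) g = a) :
    (charDegree (χ : G → ℂ) : ℤ) ∣ ((Subgroup.centralizer ({g} : Set G)).index : ℤ) * a := by
  have hω := Char.isIntegral_omega_irr χ.2 g
  rw [Char.omega, h, BrauerReynolds.value_one] at hω
  set i := (Subgroup.centralizer ({g} : Set G)).index with hi
  set d := charDegree (χ : G → ℂ) with hd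
  have hd0 : d ≠ 0 := (Char.OddDegreeSum.charDegree_pos χ).ne'
  obtain ⟨m, hm⟩ := Char.exists_int_of_isIntegral_rat (q := ((i : ℚ) * a) / d) (by
    convert hω using 1
    push_cast
    ring)
  refine ⟨m, ?_⟩
  rw [div_eq_iff (Nat.cast_ne_zero.mpr hd0)] at hm
  have : (i : ℤ) * a = m * d := by exact_mod_cast hm
  rw [this, mul_comm]

/-- An integer combination of columns: the squares over some of the characters are bounded. -/
theorem column_bound (s : Finset (IrrCharacter G)) {k : ℕ} (α : Fin k → ℤ) (g : Fin k → G)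
    (hne : ∀ i j, i ≠ j → ¬ IsConj (g i) (g j)) (V : IrrCharacter G → Fin k → ℤ)
    (hV : ∀ χ ∈ s, ∀ i, (χ : G → ℂ) (g i) = V χ i) :
    ∑ χ ∈ s, (∑ i, α i * V χ i) ^ 2 ≤
      ∑ i, α i ^ 2 * (Nat.card (Subgroup.centralizer ({g i} : Set G)) : ℤ) := by
  set f : IrrCharacter G → ℂ := fun χ => ∑ i, (α i : ℂ) * (χ : G → ℂ) (g i) with hf
  have horth : ∑ χ : IrrCharacter G, f χ * conj (f χ) =
      ((∑ i, α i ^ 2 * (Nat.card (Subgroup.centralizer ({g i} : Set G)) : ℤ) : ℤ) : ℂ) := by
    simp only [hf, map_sum, map_mul, map_intCast, Finset.sum_mul_sum]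
    rw [Finset.sum_comm]
    push_cast
    refine Finset.sum_congr rfl fun i _ => ?_
    rw [Finset.sum_comm, Finset.sum_eq_single i]
    · rw [Finset.sum_congr rfl (g := fun χ : IrrCharacter G =>
          (α i : ℂ) ^ 2 * ((χ : G → ℂ) (g i) * conj ((χ : G → ℂ) (g i)))) fun χ _ => by ring,
        ← Finset.mul_sum, Char.column_orthogonality, if_pos (IsConj.refl _)]
    · intro j _ hj
      rw [Finset.sum_congr rfl (g := fun χ : IrrCharacter G =>
          (α i : ℂ) * (α j : ℂ) * ((χ : G → ℂ) (g i) * conj ((χ : G → ℂ) (g j)))) fun χ _ => by ring,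
        ← Finset.mul_sum, Char.column_orthogonality, if_neg (hne i j (Ne.symm hj)), mul_zero]
    · exact fun h => absurd (Finset.mem_univ i) h
  have hre := congrArg Complex.re horth
  rw [Complex.re_sum, Complex.intCast_re] at hre
  have hle := Finset.sum_le_sum_of_subset_of_nonneg (Finset.subset_univ s)
    (f := fun χ : IrrCharacter G => (f χ * conj (f χ)).re)
    (fun χ _ _ => by rw [Complex.mul_conj, Complex.ofReal_re]; exact Complex.normSq_nonneg _)
  rw [hre, Finset.sum_congr rfl (g := fun χ => (((∑ i, α i * V χ i) ^ 2 : ℤ) : ℝ)) fun χ hχ => by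
    have e : f χ = ((∑ i, α i * V χ i : ℤ) : ℂ) := by
      simp only [hf]
      push_cast
      exact Finset.sum_congr rfl fun i _ => by rw [hV χ hχ i]
    rw [e, map_intCast, ← Int.cast_mul, Complex.intCast_re, pow_two]] at hle
  exact_mod_cast hle

/-- The squares of some integer values in one column are at most the order of the centraliser. -/
theorem column_bound_one (s : Finset (IrrCharacter G)) (g : G) (V : IrrCharacter G → ℤ)
    (hV : ∀ χ ∈ s, (χ : G → ℂ) g = V χ) :
    ∑ χ ∈ s, V χ ^ 2 ≤ (Nat.card (Subgroup.centralizer ({g} : Set G)) : ℤ) := by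
  simpa using column_bound s (fun _ : Fin 1 => 1) (fun _ => g)
    (fun i j h => absurd (Subsingleton.elim i j) h) (fun χ _ => V χ) (fun χ hχ _ => hV χ hχ)

/-- The values at `x * s` and at `s` agree modulo `3`, for `x` of order `3` commuting with `s`. -/
theorem dvd_sub_of_three {φ : G → ℂ} (hφ : IsCharacter G φ) {x s : G} (hx : orderOf x = 3)
    (hs : s * s = 1) (hc : x * s = s * x) {A W : ℤ} (hA : φ s = A) (hW : φ (x * s) = W) :
    (3 : ℤ) ∣ W - A := by
  haveI : Fact (Nat.Prime 3) := ⟨by norm_num⟩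
  have hcard : Nat.card (Subgroup.zpowers x) = 3 := by rw [Nat.card_zpowers, hx]
  obtain ⟨K, hK⟩ := exists_nat_sum_subgroup hφ (Subgroup.zpowers x)
  rw [hcard] at hK
  have hN : s ∈ Subgroup.normalizer ((Subgroup.zpowers x : Subgroup G) : Set G) := by
    refine Subgroup.mem_normalizer_iff.mpr fun h => ?_
    have key : ∀ a : G, a ∈ Subgroup.zpowers x → s * a * s⁻¹ = a := fun a ha => by
      obtain ⟨i, rfl⟩ := Subgroup.mem_zpowers_iff.mp ha
      rw [((show Commute x s from hc).zpow_left i).symm.eq, mul_inv_cancel_right]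
    refine ⟨fun hh => by rw [key h hh]; exact hh, fun hh => ?_⟩
    have h2 := key _ hh
    have e : s * h * s⁻¹ = h := by
      have := congrArg (fun z => s⁻¹ * z * s) h2
      simpa [mul_assoc] using this
    rwa [e] at hh
  obtain ⟨a, ha, -⟩ := BrauerTuan.exists_fixed_trace_sum hφ (Subgroup.zpowers x) hcard hs hN hK
  have hs' : s⁻¹ = s := inv_eq_of_mul_eq_one_right hs
  have hx2 : φ (x⁻¹ * s) = W := by
    rw [show x⁻¹ * s = (x * s)⁻¹ by rw [mul_inv_rev, hs', ((show Commute x s from hc).inv_left).eq],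
      Char.value_inv_eq_conj hφ, hW, map_intCast]
  have hx1 : x ≠ 1 := fun e => by rw [e, orderOf_one] at hx; omega
  have hx3 : x ^ 3 = 1 := by rw [← hx, pow_orderOf_eq_one]
  have huniv : (Finset.univ : Finset (Subgroup.zpowers x)) =
      {1, ⟨x, Subgroup.mem_zpowers x⟩, ⟨x⁻¹, inv_mem (Subgroup.mem_zpowers x)⟩} := by
    refine (Finset.eq_univ_of_card _ ?_).symm
    rw [← Nat.card_eq_fintype_card, hcard, Finset.card_insert_of_notMem, Finset.card_pair]
    · simp only [ne_eq, Subtype.mk.injEq]
      intro e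
      have : x * x = 1 := by nth_rw 2 [e]; exact mul_inv_cancel x
      exact hx1 (by rw [← hx3, pow_succ, pow_two, this, one_mul])
    · simp only [Finset.mem_insert, Finset.mem_singleton, Subtype.ext_iff, Subgroup.coe_one]
      rintro (e | e)
      · exact hx1 e.symm
      · exact hx1 (inv_eq_one.mp e.symm)
  rw [huniv, Finset.sum_insert, Finset.sum_pair, Subgroup.coe_one, one_mul, hA, hW, hx2] at ha
  · have h' : ((A + (W + W) : ℤ) : ℂ) = ((3 * a : ℤ) : ℂ) := by push_cast at ha ⊢; exact ha
    have h'' : A + (W + W) = 3 * a := Int.cast_injective h'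
    omega
  · simp only [ne_eq, Subtype.mk.injEq]
    intro e
    have : x * x = 1 := by nth_rw 2 [e]; exact mul_inv_cancel x
    exact hx1 (by rw [← hx3, pow_succ, pow_two, this, one_mul])
  · simp only [Finset.mem_insert, Finset.mem_singleton, Subtype.ext_iff, Subgroup.coe_one]
    rintro (e | e)
    · exact hx1 e.symm
    · exact hx1 (inv_eq_one.mp e.symm)

/-- A character of degree prime to `p` that is unique of its degree in the block is rational. -/
theorem rational_of_unique {p n B : ℕ} [Fact p.Prime] {qs : List ℕ} [IsSimpleGroup G]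
    (T : BrauerTuan.OrderCtx G n p qs B 1) {χ : IrrCharacter G} (hd : ¬ p ∣ charDegree (χ : G → ℂ))
    (huniq : ∀ ξ ∈ T.D.X ∪ T.D.Y, charDegree (ξ : G → ℂ) = charDegree (χ : G → ℂ) → ξ = χ) (g : G) :
    ∃ a : ℤ, (χ : G → ℂ) g = a :=
  BrauerTuan.exists_int_value_of_unique (fun ξ hξ => by
    by_cases h : ξ ∈ T.D.X ∪ T.D.Y
    · exact huniq ξ h hξ
    · exact absurd (hξ ▸ T.dvd_of_not_mem h) hd) g

end CfsgLib.M12Order
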