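import Cfsg.Agent.Lib.M12Order.Main

/-!
# The centraliser of an element of order five in M12, and a second class of involutions
-/

set_option autoImplicit false
set_option linter.unusedSectionVars false
set_option linter.style.haveILetI false

namespace CfsgLib.M12Order

open CfsgLib CfsgLib.CosetEnum CfsgLib.Golay CfsgLib.Golay.Mult CfsgLib.Golay.SylowTwo CfsgLib.M12Recog
open scoped Pointwise

attribute [local irreducible] idP toPerm mulP validP

/-- An element of `M12` fixing five points of the dodecad is trivial. -/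
theorem eq_of_five (g h : ↥Cfsg.Spor.M12) (x : Fin 5 ↪ Cfsg.GolayPt) (hx : ∀ i, x i ∈ dec dodN)
    (he : ∀ i, (g : Equiv.Perm Cfsg.GolayPt) (x i) = (h : Equiv.Perm Cfsg.GolayPt) (x i)) : g = h := by
  let y : Fin 5 ↪ Cfsg.GolayPt :=
    ⟨fun i => (g : Equiv.Perm Cfsg.GolayPt) (x i), fun i j e => x.injective ((Equiv.injective _) e)⟩
  obtain ⟨k, -, hu⟩ := sharply_five dodN_mem x y hx fun i => m12_apply_mem g.2 (hx i)
  have e := (hu (toStab g) fun i => rfl).trans (hu (toStab h) fun i => (he i).symm).symm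
  exact Subtype.ext (congrArg (fun s : MulAction.stabilizer Cfsg.M24 (dec dodN) =>
    ((s : Cfsg.M24) : Equiv.Perm Cfsg.GolayPt)) e)

theorem card_dodN : (dec dodN).card = 12 := by
  rw [card_dec_eq_pop]; decide +kernel

/-- The centraliser of an element of order five is determined by the image of one moved point. -/
theorem card_cent_five {v : ↥Cfsg.Spor.M12} (hv : orderOf v = 5) :
    Nat.card (Subgroup.centralizer ({v} : Set ↥Cfsg.Spor.M12)) ≤ 12 := by
  classical
  obtain ⟨p, hp, hmove⟩ : ∃ p ∈ dec dodN, (v : Equiv.Perm Cfsg.GolayPt) p ≠ p := by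
    by_contra h
    push Not at h
    have h1 : v = 1 := eq_of_five v 1 ⟨fivePt, fivePt_facts.1⟩ fivePt_facts.2.1 fun i =>
      h _ (fivePt_facts.2.1 i)
    rw [h1, orderOf_one] at hv
    omega
  haveI : Fact (Nat.Prime 5) := ⟨by norm_num⟩
  set σ : Equiv.Perm Cfsg.GolayPt := (v : Equiv.Perm Cfsg.GolayPt) with hσ
  have hσo : orderOf σ = 5 := by rw [hσ, Subgroup.orderOf_coe, hv]
  have hper : Function.minimalPeriod (fun q => σ q) p = 5 := by
    have h5 : Function.IsPeriodicPt (fun q => σ q) 5 p := by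
      show ((fun q => σ q)^[5]) p = p
      rw [← Equiv.Perm.coe_pow, ← hσo, pow_orderOf_eq_one]; rfl
    rcases (Nat.dvd_prime (by norm_num)).mp h5.minimalPeriod_dvd with e | e
    · exact absurd (Function.minimalPeriod_eq_one_iff_isFixedPt.mp e) hmove
    · exact e
  let x : Fin 5 ↪ Cfsg.GolayPt := ⟨fun i => (σ ^ (i : ℕ)) p, fun i j e => Fin.ext (by
    simp only [Equiv.Perm.coe_pow] at e
    exact Function.iterate_injOn_Iio_minimalPeriod (f := fun q => σ q) (x := p) (by rw [hper]; exact i.2)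
      (by rw [hper]; exact j.2) e)⟩
  have hx : ∀ i, x i ∈ dec dodN := fun i => by
    show ((σ ^ (i : ℕ)) p) ∈ dec dodN
    rw [hσ, ← Subgroup.coe_pow]
    exact m12_apply_mem (v ^ (i : ℕ)).2 hp
  refine (Nat.card_le_card_of_injective (fun c : Subgroup.centralizer ({v} : Set ↥Cfsg.Spor.M12) =>
    (⟨((c : ↥Cfsg.Spor.M12) : Equiv.Perm Cfsg.GolayPt) p, m12_apply_mem (c : ↥Cfsg.Spor.M12).2 hp⟩ :
      {q // q ∈ dec dodN})) ?_).trans ?_
  · intro c c' h
    have h' : ((c : ↥Cfsg.Spor.M12) : Equiv.Perm Cfsg.GolayPt) p =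
        ((c' : ↥Cfsg.Spor.M12) : Equiv.Perm Cfsg.GolayPt) p := congrArg Subtype.val h
    refine Subtype.ext (eq_of_five _ _ x hx fun i => ?_)
    have hc : ∀ (d : Subgroup.centralizer ({v} : Set ↥Cfsg.Spor.M12)) (k : ℕ),
        ((d : ↥Cfsg.Spor.M12) : Equiv.Perm Cfsg.GolayPt) ((σ ^ k) p) =
          (σ ^ k) (((d : ↥Cfsg.Spor.M12) : Equiv.Perm Cfsg.GolayPt) p) := fun d k => by
      have hcm : Commute ((d : ↥Cfsg.Spor.M12) : Equiv.Perm Cfsg.GolayPt) σ :=
        congrArg Subtype.val (Subgroup.mem_centralizer_singleton_iff.mp d.2)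
      exact congrArg (fun f : Equiv.Perm Cfsg.GolayPt => f p) (hcm.pow_right k).eq
    show ((c : ↥Cfsg.Spor.M12) : Equiv.Perm Cfsg.GolayPt) ((σ ^ (i : ℕ)) p) = _
    rw [hc c i, h', ← hc c' i]
    rfl
  · rw [Nat.card_eq_fintype_card, Fintype.card_coe, card_dodN]

theorem free_ok : (List.range 192).any (fun i => i != 0 && mH i i == 0 &&
    (List.range 24).all fun j => !dodN.testBit j || ap (pH i) j != j) = true := by decide +kernel

/-- Some involution is not conjugate to the central one: it has no fixed point on the dodecad. -/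
theorem exists_other_involution : ∃ t : ↥Cfsg.Spor.M12, orderOf t = 2 ∧ ¬ IsConj (f0 iC) t := by
  obtain ⟨i, hi, h⟩ := List.any_eq_true.mp free_ok
  simp only [List.mem_range] at hi
  simp only [Bool.and_eq_true, bne_iff_ne, beq_iff_eq, List.all_eq_true, List.mem_range, Bool.or_eq_true,
    Bool.not_eq_true'] at h
  obtain ⟨⟨hi0, hm⟩, hfree⟩ := h
  haveI : Fact (Nat.Prime 2) := ⟨Nat.prime_two⟩
  refine ⟨f0 i, orderOf_eq_prime ?_ fun e => hi0 ((f0_eq_one_iff hi).mp e), fun hc => ?_⟩
  · rw [pow_two, ← f0_mul i hi i hi, hm, (f0_eq_one_iff (by norm_num)).mpr rfl]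
  obtain ⟨g, hg⟩ := isConj_iff.mp hc
  have hC : iC < 192 := iC_lt
  have hq : fivePt 0 ∈ dec dodN := fivePt_facts.2.1 0
  have hfix : (f0 iC : Equiv.Perm Cfsg.GolayPt) (fivePt 0) = fivePt 0 := by
    rw [f0_val hC]
    refine idx_injective ?_
    rw [idx_toPerm (pH_valid hC)]
    decide +kernel
  set q := (g : Equiv.Perm Cfsg.GolayPt) (fivePt 0) with hqdef
  have hqd : q ∈ dec dodN := m12_apply_mem g.2 hq
  have hmove : (f0 i : Equiv.Perm Cfsg.GolayPt) q ≠ q := by
    rw [mem_dec] at hqd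
    rcases hfree (idx q) (idx_lt q) with e | e
    · rw [hqd] at e; exact absurd e (by simp)
    · intro he
      apply e
      rw [f0_val hi] at he
      rw [← idx_toPerm (pH_valid hi), he]
  apply hmove
  rw [← hg, Subgroup.coe_mul, Subgroup.coe_mul, Equiv.Perm.mul_apply, Equiv.Perm.mul_apply, hqdef,
    Subgroup.coe_inv, Equiv.Perm.coe_inv, Equiv.symm_apply_apply, hfix]

end CfsgLib.M12Order
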