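import Cfsg.Agent.Lib.M12Order.SimpleOrders
import Cfsg.Agent.Lib.M12Order.Main
import Cfsg.Agent.Lib.M11Unique.Graph
import Cfsg.Agent.Lib.M11Unique.Recognize
import Cfsg.Agent.Lib.SylowNumber.Coprime
import Cfsg.Agent.Lib.Char.Extraspecial
import Cfsg.Agent.Lib.Char.MeanValue
import Cfsg.Agent.Lib.Char.Counting
import Cfsg.Agent.Lib.StemExt.Basic
import Cfsg.Agent.S2034
import Cfsg.Agent.S2060

/-!
# Groups of order 95040 with a degree divisible by 55 and one divisible by 33
-/

set_option autoImplicit false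
set_option linter.unusedSectionVars false
set_option linter.style.haveILetI false

namespace CfsgLib.M12Order.DegGraph

open Cfsg CfsgLib
open scoped ComplexConjugate CfsgLib.Char

universe u

variable {G : Type u} [Group G] [Finite G]

theorem key_pow : ∀ k < 7, ∀ i ≤ k, (2 ^ i % 11 = 2 ^ k % 11 → i = k) ∧
    (k < 4 → 3 ^ i % 11 = 3 ^ k % 11 → i = k) ∧ (k < 2 → 5 ^ i % 11 = 5 ^ k % 11 → i = k) := by
  decide +kernel

/-- An element of order 11 normalising a subgroup of order prime to 11 centralises it. -/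
theorem le_centralizer_of_eleven (hn : Nat.card G ∣ 95040) {R : Subgroup G} {v : G} (hv : orderOf v = 11)
    (hvR : v ∈ Subgroup.normalizer (R : Set G)) (hR : ¬ 11 ∣ Nat.card R) :
    R ≤ Subgroup.centralizer ({v} : Set G) := by
  classical
  haveI : Fact (Nat.Prime 11) := ⟨by norm_num⟩
  obtain ⟨C, hC⟩ : ∃ C, C = Subgroup.centralizer ({v} : Set G) := ⟨_, rfl⟩
  rw [← hC]
  have hR8640 : Nat.card R ∣ 8640 := by
    refine ((Nat.Prime.coprime_iff_not_dvd (by norm_num : Nat.Prime 11)).mpr hR).symm.dvd_of_dvd_mul_left ?_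
    exact ((Subgroup.card_subgroup_dvd_card R).trans hn).trans (by norm_num)
  have hsyl : ∀ r : ℕ, r.Prime → r ∣ Nat.card R → r ^ (Nat.card R).factorization r ∣ Nat.card (C ⊓ R : Subgroup G) := by
    intro r hr hrR
    haveI := Fact.mk hr
    have hP : IsPGroup 11 (Subgroup.zpowers v) :=
      IsPGroup.of_card (n := 1) (by rw [Nat.card_zpowers, hv, pow_one])
    obtain ⟨S, hS⟩ := CfsgLib.SylowNumber.exists_invariant_sylow (r := r) hP (Subgroup.zpowers_le.mpr hvR) hR
    obtain ⟨Q, hQ⟩ : ∃ Q, Q = (S : Subgroup R).map R.subtype := ⟨_, rfl⟩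
    rw [← hQ] at hS
    have hQc : Nat.card Q = r ^ (Nat.card R).factorization r := by
      rw [hQ, Subgroup.card_map_of_injective R.subtype_injective, S.card_eq_multiplicity]
    have hQR : Q ≤ R := hQ ▸ Subgroup.map_subtype_le _
    have hvQ : ∀ x ∈ Q, v * x * v⁻¹ ∈ Q := fun x hx =>
      (Subgroup.mem_normalizer_iff.mp (hS (Subgroup.mem_zpowers v)) x).mp hx
    obtain ⟨f, hf⟩ : ∃ f : Function.End Q, f = fun x : Q => ⟨v * x * v⁻¹, hvQ x x.2⟩ := ⟨_, rfl⟩
    have hiter : ∀ (m : ℕ) (x : Q), (((f ^ m : Function.End Q) x : Q) : G) = v ^ m * x * (v ^ m)⁻¹ := by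
      intro m
      induction m with
      | zero =>
        intro x
        rw [pow_zero, pow_zero, one_mul, inv_one, mul_one]
        rfl
      | succ m ih =>
        intro x
        rw [pow_succ' f m]
        show ((f ((f ^ m : Function.End Q) x) : Q) : G) = _
        rw [show ((f ((f ^ m : Function.End Q) x) : Q) : G) = v * ((f ^ m : Function.End Q) x : Q) * v⁻¹ from
          congrArg Subtype.val (congrFun hf _), ih, pow_succ', mul_inv_rev]
        simp only [mul_assoc]
    have hf11 : f ^ 11 ^ 1 = 1 := by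
      refine funext fun x => Subtype.ext ?_
      rw [pow_one, hiter, ← hv, pow_orderOf_eq_one, one_mul, inv_one, mul_one]
      rfl
    haveI : Fintype Q := Fintype.ofFinite Q
    have hmod := Equiv.Perm.card_fixedPoints_modEq (α := Q) (p := 11) hf11
    simp only [Fintype.card_eq_nat_card] at hmod
    have hfix : Nat.card (Function.fixedPoints f) = Nat.card (C ⊓ Q : Subgroup G) := by
      refine Nat.card_congr
        { toFun := fun x => ⟨((x : Q) : G), by
            have h : v * ((x : Q) : G) * v⁻¹ = ((x : Q) : G) :=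
              (congrArg Subtype.val (congrFun hf (x : Q))).symm.trans
                (congrArg Subtype.val (x.2 : f (x : Q) = (x : Q)))
            exact Subgroup.mem_inf.mpr ⟨hC ▸ Subgroup.mem_centralizer_singleton_iff.mpr
              (mul_inv_eq_iff_eq_mul.mp h).symm, (x : Q).2⟩⟩
          invFun := fun x => ⟨⟨x, (Subgroup.mem_inf.mp x.2).2⟩, by
            have hx := (Subgroup.mem_inf.mp x.2).1
            simp only [hC] at hx
            have h := Subgroup.mem_centralizer_singleton_iff.mp hx
            show f _ = _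
            exact (congrFun hf _).trans (Subtype.ext (mul_inv_eq_iff_eq_mul.mpr h.symm))⟩
          left_inv := fun x => rfl
          right_inv := fun x => rfl }
    rw [hfix] at hmod
    have hdvd : Nat.card (C ⊓ Q : Subgroup G) ∣ Nat.card Q := Subgroup.card_dvd_of_le inf_le_right
    rw [hQc] at hdvd hmod
    obtain ⟨i, hi, hi'⟩ := (Nat.dvd_prime_pow hr).mp hdvd
    rw [hi', Nat.ModEq] at hmod
    have hkle : r ^ (Nat.card R).factorization r ∣ 8640 := (Nat.ordProj_dvd _ _).trans hR8640
    have hr3 : r = 2 ∨ r = 3 ∨ r = 5 := by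
      rcases (Nat.Prime.dvd_mul hr).mp (show r ∣ 2 ^ 6 * 3 ^ 3 * 5 from hrR.trans hR8640) with h | h
      · rcases (Nat.Prime.dvd_mul hr).mp h with h | h
        · exact Or.inl ((Nat.prime_dvd_prime_iff_eq hr Nat.prime_two).mp (hr.dvd_of_dvd_pow h))
        · exact Or.inr (Or.inl ((Nat.prime_dvd_prime_iff_eq hr Nat.prime_three).mp (hr.dvd_of_dvd_pow h)))
      · exact Or.inr (Or.inr ((Nat.prime_dvd_prime_iff_eq hr Nat.prime_five).mp h))
    generalize hkdef : (Nat.card R).factorization r = k at hi hkle hQc hmod hdvd ⊢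
    have hik : i = k := by
      have h8 := fun j hj => (Nat.pow_dvd_pow r (hj : j ≤ k)).trans hkle
      rcases hr3 with rfl | rfl | rfl
      · have hk : k < 7 := by
          by_contra h
          exact absurd (h8 7 (by omega)) (by norm_num)
        exact (key_pow k hk i hi).1 hmod.symm
      · have hk : k < 4 := by
          by_contra h
          exact absurd (h8 4 (by omega)) (by norm_num)
        exact (key_pow k (by omega) i hi).2.1 hk hmod.symm
      · have hk : k < 2 := by
          by_contra h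
          exact absurd (h8 2 (by omega)) (by norm_num)
        exact (key_pow k (by omega) i hi).2.2 hk hmod.symm
    rw [← hik, ← hi']
    exact Subgroup.card_dvd_of_le (inf_le_inf_left _ hQR)
  have hcard : Nat.card R ∣ Nat.card (C ⊓ R : Subgroup G) := by
    rw [← Nat.factorization_le_iff_dvd Nat.card_pos.ne' Nat.card_pos.ne']
    intro r
    by_cases h : r.Prime ∧ r ∣ Nat.card R
    · exact (h.1.pow_dvd_iff_le_factorization Nat.card_pos.ne').mp (hsyl r h.1 h.2)
    · rw [Nat.factorization_eq_zero_iff (Nat.card R) r |>.mpr (by tauto)]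
      exact Nat.zero_le _
  have heq : C ⊓ R = R := Subgroup.eq_of_le_of_card_ge inf_le_right (Nat.le_of_dvd Nat.card_pos hcard)
  exact heq ▸ inf_le_left

/-- A group of order dividing 95040 generated by at least two subgroups of order 11 is perfect and simple
modulo its centre. -/
theorem core_facts {T : Type u} [Group T] [Finite T] (hn : Nat.card T ∣ 95040)
    (hgen : Subgroup.closure {g : T | orderOf g = 11} = ⊤)
    (hnn : ∀ P : Subgroup T, P.Normal → Nat.card P ≠ 11) (h11 : 11 ∣ Nat.card T) :
    commutator T = ⊤ ∧ IsSimpleGroup (T ⧸ Subgroup.center T) ∧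
      ¬ IsMulCommutative (T ⧸ Subgroup.center T) ∧ 11 ∣ (Subgroup.center T).index ∧
        ¬ 11 ∣ Nat.card (Subgroup.center T) := by
  haveI : Fact (Nat.Prime 11) := ⟨by norm_num⟩
  have h121 : ¬ 11 ^ 2 ∣ Nat.card T := fun h => by have := h.trans hn; norm_num at this
  have hsylow : ∀ {w : T}, orderOf w = 11 → ∀ Q : Sylow 11 T, Subgroup.zpowers w ≤ (Q : Subgroup T) →
      Subgroup.zpowers w = (Q : Subgroup T) := fun {w} hw Q hQ => by
    refine Subgroup.eq_of_le_of_card_ge hQ ?_
    rw [Nat.card_zpowers, hw, Q.card_eq_multiplicity]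
    have : (Nat.card T).factorization 11 ≤ 1 := by
      by_contra h
      exact h121 (((by norm_num : Nat.Prime 11).pow_dvd_iff_le_factorization Nat.card_pos.ne').mpr (by omega))
    exact (Nat.pow_le_pow_right (by norm_num) this).trans (by norm_num)
  have habel : ¬ ∀ a b : T, a * b = b * a := by
    intro h
    obtain ⟨v, hv⟩ := exists_prime_orderOf_dvd_card' 11 h11
    refine hnn (Subgroup.zpowers v) ⟨fun a ha g => ?_⟩ (by rw [Nat.card_zpowers, hv])
    rw [h g a, mul_inv_cancel_right]
    exact ha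
  have dich : ∀ N : Subgroup T, N.Normal → N = ⊤ ∨ N ≤ Subgroup.center T := by
    intro N hN
    by_cases h : 11 ∣ Nat.card N
    · left
      obtain ⟨w', hw'⟩ := exists_prime_orderOf_dvd_card' (G := N) 11 h
      have hw : orderOf (w' : T) = 11 := by rw [Subgroup.orderOf_coe, hw']
      refine top_le_iff.mp (hgen ▸ (Subgroup.closure_le _).mpr fun g hg => ?_)
      obtain ⟨Q, hQ⟩ := (IsPGroup.of_card (p := 11) (n := 1)
        (by rw [Nat.card_zpowers, hw, pow_one] : Nat.card (Subgroup.zpowers (w' : T)) = 11 ^ 1)).exists_le_sylow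
      obtain ⟨Q', hQ'⟩ := (IsPGroup.of_card (p := 11) (n := 1)
        (by rw [Nat.card_zpowers, (hg : orderOf g = 11), pow_one] :
          Nat.card (Subgroup.zpowers g) = 11 ^ 1)).exists_le_sylow
      obtain ⟨b, hb⟩ := MulAction.exists_smul_eq T Q Q'
      have hg' : g ∈ (Q' : Subgroup T) := hQ' (Subgroup.mem_zpowers g)
      rw [← hb, Sylow.coe_subgroup_smul, ← hsylow hw Q hQ] at hg'
      obtain ⟨x, hx, rfl⟩ := hg'
      obtain ⟨i, rfl⟩ := Subgroup.mem_zpowers_iff.mp hx
      exact hN.conj_mem _ (N.zpow_mem w'.2 i) b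
    · right
      intro x hx
      refine Subgroup.mem_center_iff.mpr fun g => ?_
      have hle : Subgroup.closure {g : T | orderOf g = 11} ≤ Subgroup.centralizer ({x} : Set T) :=
        (Subgroup.closure_le _).mpr fun w hw => by
          refine Subgroup.mem_centralizer_singleton_iff.mpr ?_
          have := le_centralizer_of_eleven hn (hw : orderOf w = 11)
            (Subgroup.normalizer_eq_top (H := N) ▸ Subgroup.mem_top w) h hx
          exact (Subgroup.mem_centralizer_singleton_iff.mp this).symm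
      rw [hgen] at hle
      exact Subgroup.mem_centralizer_singleton_iff.mp (hle (Subgroup.mem_top g))
  have hZtop : Subgroup.center T ≠ ⊤ := fun e => habel fun a b =>
    Subgroup.mem_center_iff.mp (show b ∈ Subgroup.center T by rw [e]; exact Subgroup.mem_top b) a
  haveI : Nontrivial (T ⧸ Subgroup.center T) := QuotientGroup.nontrivial_iff.mpr hZtop
  have hsimp : IsSimpleGroup (T ⧸ Subgroup.center T) := by
    refine ⟨fun K hK => ?_⟩
    rcases dich (K.comap (QuotientGroup.mk' _)) inferInstance with h | h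
    · right
      rw [← Subgroup.map_comap_eq_self_of_surjective (QuotientGroup.mk'_surjective _) K, h,
        Subgroup.map_top_of_surjective _ (QuotientGroup.mk'_surjective _)]
    · left
      rw [← Subgroup.map_comap_eq_self_of_surjective (QuotientGroup.mk'_surjective _) K, eq_bot_iff,
        Subgroup.map_le_iff_le_comap, MonoidHom.comap_bot, QuotientGroup.ker_mk']
      exact h
  have hncomm : ¬ IsMulCommutative (T ⧸ Subgroup.center T) := by
    intro hc
    haveI : IsCyclic (T ⧸ Subgroup.center T) := by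
      letI : CommGroup (T ⧸ Subgroup.center T) :=
        { (inferInstance : Group (T ⧸ Subgroup.center T)) with mul_comm := fun a b => hc.is_comm.comm a b }
      exact isCyclic_of_prime_card (p := Nat.card (T ⧸ Subgroup.center T))
        (hp := ⟨IsSimpleGroup.prime_card⟩) rfl
    exact habel fun a b => commutative_of_cyclic_center_quotient (QuotientGroup.mk' (Subgroup.center T))
      (le_of_eq (QuotientGroup.ker_mk' _)) a b
  have hcomm : commutator T = ⊤ := by
    refine (dich _ inferInstance).resolve_right fun hle => hncomm ⟨⟨fun a b => ?_⟩⟩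
    obtain ⟨a, rfl⟩ := QuotientGroup.mk_surjective a
    obtain ⟨b, rfl⟩ := QuotientGroup.mk_surjective b
    rw [← QuotientGroup.mk_mul, ← QuotientGroup.mk_mul, QuotientGroup.eq]
    have := hle (Subgroup.commutator_mem_commutator (Subgroup.mem_top b⁻¹) (Subgroup.mem_top a⁻¹))
    rw [commutatorElement_def, inv_inv, inv_inv] at this
    simpa [mul_assoc] using this
  have hZ11 : ¬ 11 ∣ Nat.card (Subgroup.center T) := by
    intro h
    obtain ⟨w, hw⟩ := exists_prime_orderOf_dvd_card' (G := Subgroup.center T) 11 h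
    refine hnn (Subgroup.zpowers (w : T)) ⟨fun a ha g => ?_⟩
      (by rw [Nat.card_zpowers, Subgroup.orderOf_coe, hw])
    have hac : a ∈ Subgroup.center T := Subgroup.zpowers_le.mpr w.2 ha
    rw [Subgroup.mem_center_iff.mp hac g, mul_inv_cancel_right]
    exact ha
  refine ⟨hcomm, hsimp, hncomm, ?_, hZ11⟩
  refine (Nat.Prime.dvd_mul (by norm_num)).mp ?_ |>.resolve_left hZ11
  rwa [Subgroup.card_mul_index]

open scoped _root_.Classical

/-- The square of a degree is at most the index of the centre. -/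
theorem sq_le_index_center {T : Type u} [Group T] [Finite T] (θ : IrrCharacter T) :
    charDegree (θ : T → ℂ) * charDegree (θ : T → ℂ) ≤ (Subgroup.center T).index := by
  letI : Fintype T := Fintype.ofFinite T
  obtain ⟨Z, hZ⟩ : ∃ Z, Z = Subgroup.center T := ⟨_, rfl⟩
  rw [← hZ]
  obtain ⟨d, hd⟩ : ∃ d, d = charDegree (θ : T → ℂ) := ⟨_, rfl⟩
  rw [← hd]
  have h1 : (θ : T → ℂ) 1 = (d : ℂ) := by rw [hd]; exact BrauerReynolds.value_one θ
  have hval : ∀ z ∈ Z, (θ : T → ℂ) z * conj ((θ : T → ℂ) z) = (d : ℂ) * (d : ℂ) := by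
    intro z hz
    have h := Char.central_mul θ.2 (z := z) (hZ ▸ hz) z⁻¹
    rw [inv_mul_cancel, Char.value_inv_eq_conj (Char.isCharacter_of_isIrr θ.2), h1] at h
    rw [mul_comm]
    exact h.symm
  have hself := Char.classInner_irr_self θ.2
  simp only [classInner] at hself
  rw [inv_mul_eq_iff_eq_mul₀ (Nat.cast_ne_zero.mpr Nat.card_pos.ne'), mul_one] at hself
  have hre := congrArg Complex.re hself
  rw [Complex.re_sum, Complex.natCast_re] at hre
  have hle := Finset.sum_le_sum_of_subset_of_nonneg (Finset.subset_univ (Finset.univ.filter fun g => g ∈ Z))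
    (f := fun g => ((θ : T → ℂ) g * conj ((θ : T → ℂ) g)).re)
    (fun g _ _ => by rw [Complex.mul_conj, Complex.ofReal_re]; exact Complex.normSq_nonneg _)
  rw [hre, Finset.sum_congr rfl (g := fun _ => ((d * d : ℕ) : ℝ)) fun g hg => by
      rw [hval g (Finset.mem_filter.mp hg).2, ← Nat.cast_mul, Complex.natCast_re],
    Finset.sum_const, nsmul_eq_mul, ← Nat.cast_mul, Nat.cast_le, ← Fintype.card_subtype,
    ← Nat.card_eq_fintype_card] at hle
  have hm := Z.card_mul_index
  change Nat.card Z * (d * d) ≤ Nat.card T at hle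
  exact Nat.le_of_mul_le_mul_left (hm ▸ hle) Nat.card_pos

/-- A constituent on a normal subgroup: the quotient of the degrees divides the index. -/
theorem exists_ratio (N : Subgroup G) [N.Normal] (χ : IrrCharacter G) :
    ∃ (θ : IrrCharacter N) (k : ℕ), charDegree (χ : G → ℂ) = k * charDegree (θ : N → ℂ) ∧ k ∣ N.index := by
  letI : Fintype G := Fintype.ofFinite G
  letI : Fintype N := Fintype.ofFinite N
  obtain ⟨θ, hθ⟩ := Char.exists_constituent N (Char.isCharacter_of_isIrr χ.2) (Char.irr_degree_ne_zero χ.2)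
  obtain ⟨k, hk, hkd⟩ := Char.degree_ratio N θ.2 χ.2 hθ
  refine ⟨θ, k, ?_, hkd⟩
  rw [BrauerReynolds.value_one, BrauerReynolds.value_one] at hk
  exact_mod_cast hk

/-- A group of order twelve with an irreducible character of degree three. -/
theorem equiv_alt_four (hC : Nat.card G = 12) (χ : IrrCharacter G) (hχ : 3 ∣ charDegree (χ : G → ℂ)) :
    Nonempty (G ≃* alternatingGroup (Fin 4)) := by
  haveI : Fact (Nat.Prime 3) := ⟨Nat.prime_three⟩
  obtain ⟨r, hr⟩ := exists_prime_orderOf_dvd_card' (G := G) 3 (by rw [hC]; norm_num)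
  obtain ⟨S, hSdef⟩ : ∃ S, S = Subgroup.zpowers r := ⟨_, rfl⟩
  have hS : Nat.card S = 3 := by rw [hSdef, Nat.card_zpowers, hr]
  have hi : S.index = 4 := by
    have h := S.card_mul_index
    rw [hS, hC] at h
    omega
  have hcore : S.normalCore = ⊥ := by
    have h := Subgroup.card_dvd_of_le S.normalCore_le
    rw [hS] at h
    rcases (Nat.dvd_prime Nat.prime_three).mp h with e | e
    · exact Subgroup.card_eq_one.mp e
    exfalso
    have he : S.normalCore = S := Subgroup.eq_of_le_of_card_ge S.normalCore_le (by rw [e, hS])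
    haveI : S.Normal := he ▸ Subgroup.normalCore_normal S
    haveI : IsCyclic S := isCyclic_of_prime_card hS
    have := Char.Extraspecial.ito χ.2 S (fun a ha b hb => congrArg Subtype.val
      ((IsCyclic.commGroup (α := S)).mul_comm ⟨a, ha⟩ ⟨b, hb⟩)) (BrauerReynolds.value_one χ)
    rw [hi] at this
    have := hχ.trans this
    norm_num at this
  let φ : G →* Equiv.Perm (G ⧸ S) := MulAction.toPermHom G (G ⧸ S)
  have hφ : Function.Injective φ := by
    rw [← MonoidHom.ker_eq_bot_iff, ← Subgroup.normalCore_eq_ker]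
    exact hcore
  haveI : Fintype (G ⧸ S) := Fintype.ofFinite _
  have hX : Fintype.card (G ⧸ S) = 4 := by
    rw [← Nat.card_eq_fintype_card, ← Subgroup.index_eq_card, hi]
  let ψ : G →* Equiv.Perm (Fin 4) :=
    ((Fintype.equivFinOfCardEq hX).permCongrHom).toMonoidHom.comp φ
  have hψ : Function.Injective ψ := (Fintype.equivFinOfCardEq hX).permCongrHom.injective.comp hφ
  have hrange : ψ.range = alternatingGroup (Fin 4) := by
    apply Equiv.Perm.eq_alternatingGroup_of_index_eq_two
    have h := ψ.range.card_mul_index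
    rw [← Nat.card_congr (MonoidHom.ofInjective hψ).toEquiv, hC, Nat.card_perm, Nat.card_fin] at h
    norm_num [Nat.factorial] at h
    omega
  exact ⟨(MonoidHom.ofInjective hψ).trans (MulEquiv.subgroupCongr hrange)⟩

/-- A perfect group with trivial multiplier modulo its centre has trivial centre. -/
theorem center_eq_bot {T : Type u} [Group T] [Finite T] (hperf : commutator T = ⊤)
    (e : T ⧸ Subgroup.center T ≃* ↥Cfsg.Spor.M11) : Subgroup.center T = ⊥ := by
  let f : T →* ↥Cfsg.Spor.M11 := e.toMonoidHom.comp (QuotientGroup.mk' (Subgroup.center T))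
  let s : Shrink.{0} T ≃* T := Shrink.mulEquiv
  haveI : Finite (Shrink.{0} T) := Finite.of_equiv T s.symm.toEquiv
  let σ : Shrink.{0} T →* ↥Cfsg.Spor.M11 := f.comp s.toMonoidHom
  have hfk : f.ker = Subgroup.center T := by
    ext x
    simp [f, MonoidHom.mem_ker]
  have hσk : σ.ker = (Subgroup.center T).comap s.toMonoidHom := by
    rw [← hfk, MonoidHom.comap_ker]
  have hstem : IsStemExtension σ := by
    refine ⟨(e.surjective.comp (QuotientGroup.mk'_surjective _)).comp s.surjective, ?_, ?_⟩
    · intro x hx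
      rw [hσk, Subgroup.mem_comap] at hx
      refine Subgroup.mem_center_iff.mpr fun g => s.injective ?_
      rw [map_mul, map_mul]
      exact Subgroup.mem_center_iff.mp hx (s g)
    · have : commutator (Shrink.{0} T) = ⊤ := by
        rw [eq_top_iff]
        intro x _
        have hx : s x ∈ (commutator (Shrink.{0} T)).map s.toMonoidHom := by
          rw [map_commutator_eq, MonoidHom.range_eq_top.mpr s.surjective, ← commutator_def, hperf]
          exact Subgroup.mem_top _
        obtain ⟨y, hy, hxy⟩ := hx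
        rwa [← s.injective hxy]
      rw [this]
      exact le_top
  have hbot := CfsgLib.StemExt.ker_eq_bot_of_hasCyclicSchurMultiplier_one Cfsg.Agent.S2034.result σ hstem
  refine (Subgroup.eq_bot_iff_forall _).mpr fun z hz => ?_
  have : s.symm z ∈ σ.ker := by
    rw [hσk, Subgroup.mem_comap]
    simpa using hz
  rw [hbot, Subgroup.mem_bot] at this
  simpa using congrArg s this

/-- **The two groups.** -/
theorem main (hn : Nat.card G = 95040) {χ₁ χ₂ : IrrCharacter G} (h55 : 55 ∣ charDegree (χ₁ : G → ℂ))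
    (h33 : 33 ∣ charDegree (χ₂ : G → ℂ)) :
    Nonempty (G ≃* ↥Cfsg.Spor.M12) ∨ Nonempty (G ≃* alternatingGroup (Fin 4) × ↥Cfsg.Spor.M11) := by
  letI : Fintype G := Fintype.ofFinite G
  haveI : Fact (Nat.Prime 11) := ⟨by norm_num⟩
  -- no normal Sylow 11-subgroup
  have hA1 : ∀ P : Subgroup G, P.Normal → Nat.card P ≠ 11 := fun P hP hc => by
    haveI : IsCyclic P := isCyclic_of_prime_card hc
    have h := Char.Extraspecial.ito χ₁.2 P (fun a ha b hb => congrArg Subtype.val
      ((IsCyclic.commGroup (α := P)).mul_comm ⟨a, ha⟩ ⟨b, hb⟩)) (BrauerReynolds.value_one χ₁)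
    have hi := P.card_mul_index
    rw [hc, hn] at hi
    have := h55.trans h
    omega
  obtain ⟨T, hT⟩ : ∃ T, T = Subgroup.closure {g : G | orderOf g = 11} := ⟨_, rfl⟩
  haveI hTn : T.Normal := by
    rw [hT]
    refine ⟨fun x hx g => ?_⟩
    have hle : Subgroup.closure {g : G | orderOf g = 11} ≤
        (Subgroup.closure {g : G | orderOf g = 11}).comap (MulAut.conj g).toMonoidHom := by
      refine (Subgroup.closure_le _).mpr fun y hy => ?_
      refine Subgroup.subset_closure ?_
      show orderOf (MulAut.conj g y) = 11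
      exact (MulEquiv.orderOf_eq (MulAut.conj g) y).trans hy
    exact hle hx
  obtain ⟨v, hv⟩ := exists_prime_orderOf_dvd_card' (G := G) 11 (by rw [hn]; norm_num)
  have hvT : v ∈ T := hT ▸ Subgroup.subset_closure hv
  have hT11 : 11 ∣ Nat.card T := hv ▸ Subgroup.orderOf_dvd_natCard T hvT
  have hTd : Nat.card T ∣ 95040 := hn ▸ Subgroup.card_subgroup_dvd_card T
  have hgen : Subgroup.closure {g : T | orderOf g = 11} = ⊤ := by
    have h := Subgroup.closure_closure_coe_preimage (k := {g : G | orderOf g = 11})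
    subst hT
    refine Eq.trans (congrArg Subgroup.closure (Set.ext fun g => ?_)) h
    show orderOf g = 11 ↔ orderOf (g : G) = 11
    rw [Subgroup.orderOf_coe]
  have hnn : ∀ P : Subgroup T, P.Normal → Nat.card P ≠ 11 := by
    intro P hP hc
    obtain ⟨Q, hQ⟩ := (IsPGroup.of_card (p := 11) (n := 1) (by rw [hc, pow_one] : Nat.card P = 11 ^ 1)).exists_le_sylow
    have hQ11 : (Q : Subgroup T) = P := by
      refine (Subgroup.eq_of_le_of_card_ge hQ ?_).symm
      rw [hc, Q.card_eq_multiplicity]
      have : (Nat.card T).factorization 11 ≤ 1 := by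
        by_contra h
        have := (((by norm_num : Nat.Prime 11).pow_dvd_iff_le_factorization Nat.card_pos.ne').mpr
          (show 2 ≤ (Nat.card T).factorization 11 by omega)).trans hTd
        norm_num at this
      exact (Nat.pow_le_pow_right (by norm_num) this).trans (by norm_num)
    haveI : (Q : Subgroup T).Normal := hQ11 ▸ hP
    haveI := Q.characteristic_of_normal this
    haveI := ConjAct.normal_of_characteristic_of_normal (K := (Q : Subgroup T))
    exact hA1 _ this (by rw [Subgroup.card_map_of_injective T.subtype_injective, hQ11, hc])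
  obtain ⟨hperf, hsimp, hncomm, hidx11, -⟩ := core_facts hTd hgen hnn hT11
  obtain ⟨N, hN⟩ : ∃ N, N = (Subgroup.center T).index := ⟨_, rfl⟩
  have hNc : Nat.card (T ⧸ Subgroup.center T) = N := hN.trans (Subgroup.index_eq_card _) |>.symm
  have hNT : N ∣ Nat.card T := hN ▸ Subgroup.index_dvd_card _
  haveI : Fintype (T ⧸ Subgroup.center T) := Fintype.ofFinite _
  obtain ⟨h5, hbig⟩ := order_facts (G := T ⧸ Subgroup.center T) hncomm (hNc ▸ hN ▸ hidx11)
    (hNc ▸ hNT.trans hTd)
  rw [hNc] at h5 hbig
  have hmul : Nat.card T * T.index = 95040 := hn ▸ T.card_mul_index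
  have hTi5 : ¬ 5 ∣ T.index := fun h => by
    have := mul_dvd_mul (h5.trans hNT) h
    rw [hmul] at this
    norm_num at this
  have hTi11 : ¬ 11 ∣ T.index := fun h => by
    have := mul_dvd_mul hT11 h
    rw [hmul] at this
    norm_num at this
  have hbig' : 3025 ≤ N := by
    obtain ⟨θ, k, hk, hkd⟩ := exists_ratio T χ₁
    have hθ55 : 55 ∣ charDegree (θ : T → ℂ) := by
      refine (Nat.Coprime.dvd_of_dvd_mul_left ?_ (hk ▸ h55))
      have hk5 : ¬ 5 ∣ k := fun h => hTi5 (h.trans hkd)
      have hk11 : ¬ 11 ∣ k := fun h => hTi11 (h.trans hkd)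
      rw [show (55 : ℕ) = 5 * 11 from rfl, Nat.coprime_mul_iff_left]
      exact ⟨Nat.prime_five.coprime_iff_not_dvd.mpr hk5,
        (by norm_num : Nat.Prime 11).coprime_iff_not_dvd.mpr hk11⟩
    have h0 : 0 < charDegree (θ : T → ℂ) := Char.OddDegreeSum.charDegree_pos θ
    have hle : 55 ≤ charDegree (θ : T → ℂ) := Nat.le_of_dvd h0 hθ55
    calc 3025 = 55 * 55 := by norm_num
      _ ≤ _ := Nat.mul_le_mul hle hle
      _ ≤ N := hN ▸ sq_le_index_center θ
  rcases hbig hbig' with hN7 | hN9
  swap
  · -- order 95040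
    left
    have hTcard : Nat.card T = 95040 := Nat.dvd_antisymm hTd (hN9 ▸ hNT)
    have hTtop : T = ⊤ := Subgroup.eq_top_of_card_eq T (hTcard.trans hn.symm)
    have hZ : Subgroup.center T = ⊥ := by
      refine Subgroup.card_eq_one.mp ?_
      have h := (Subgroup.center T).card_mul_index
      rw [← hN, hN9, hTcard] at h
      omega
    let e : G ≃* T ⧸ Subgroup.center T :=
      ((Subgroup.topEquiv.symm.trans (MulEquiv.subgroupCongr hTtop.symm)).trans
        (QuotientGroup.quotientBot (G := T)).symm).trans (QuotientGroup.quotientMulEquivOfEq hZ.symm)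
    haveI : Nontrivial G := e.toEquiv.nontrivial
    haveI : IsSimpleGroup G := IsSimpleGroup.isSimpleGroup_of_surjective e.symm.toMonoidHom e.symm.surjective
    exact isoM12_of_card hn
  -- order 7920
  right
  obtain ⟨h11c, h11s⟩ := CfsgLib.M11Unique.card_spor
  haveI := h11s
  haveI : Finite ↥Cfsg.Spor.M11 := Nat.finite_of_card_ne_zero (by rw [h11c]; norm_num)
  letI : Fintype ↥Cfsg.Spor.M11 := Fintype.ofFinite _
  obtain ⟨f₁⟩ := CfsgLib.M11Unique.nonempty_equiv_of_card (G := T ⧸ Subgroup.center T) (hNc.trans hN7)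
  obtain ⟨f₂⟩ := CfsgLib.M11Unique.nonempty_equiv_of_card h11c
  obtain hZ := center_eq_bot hperf (f₁.trans f₂.symm)
  have hTcard : Nat.card T = 7920 := by
    have h := (Subgroup.center T).card_mul_index
    rw [← hN, hN7, hZ, Subgroup.card_bot, one_mul] at h
    exact h.symm
  let eT : T ≃* ↥Cfsg.Spor.M11 :=
    ((QuotientGroup.quotientBot (G := T)).symm.trans (QuotientGroup.quotientMulEquivOfEq hZ.symm)).trans
      (f₁.trans f₂.symm)
  haveI : Nontrivial T := eT.toEquiv.nontrivial
  haveI : IsSimpleGroup T := IsSimpleGroup.isSimpleGroup_of_surjective eT.symm.toMonoidHom eT.symm.surjective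
  -- every automorphism of `T` is inner
  have hinn : Cfsg.Inn T = ⊤ := by
    have h := (CfsgLib.Golay.AutTwo.out_congr eT).trans Cfsg.Agent.S2060.result
    rw [show Nat.card (Cfsg.Out T) = (Cfsg.Inn T).index from (Subgroup.index_eq_card _).symm] at h
    exact Subgroup.index_eq_one.mp h
  obtain ⟨C, hC⟩ : ∃ C, C = Subgroup.centralizer (T : Set G) := ⟨_, rfl⟩
  have hcomm : ∀ t : T, ∀ c : C, Commute (t : G) (c : G) := fun t c =>
    Subgroup.mem_centralizer_iff.mp (show (c : G) ∈ Subgroup.centralizer (T : Set G) by simpa only [← hC] using c.2) t t.2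
  let m : C × T →* G := MonoidHom.noncommCoprod C.subtype T.subtype fun c t => (hcomm t c).symm
  have hm : Function.Bijective m := by
    refine ⟨?_, fun g => ?_⟩
    · rw [injective_iff_map_eq_one]
      rintro ⟨c, t⟩ h
      change (c : G) * (t : G) = 1 at h
      have htC : (t : G) ∈ C := by
        rw [eq_inv_of_mul_eq_one_right h]
        exact C.inv_mem c.2
      have htZ : t ∈ Subgroup.center T := Subgroup.mem_center_iff.mpr fun s =>
        Subtype.ext (hcomm s ⟨t, htC⟩).eq
      rw [hZ, Subgroup.mem_bot] at htZ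
      subst htZ
      rw [Subgroup.coe_one, mul_one] at h
      exact Prod.ext (Subtype.ext h) rfl
    · obtain ⟨t, ht⟩ : (MulAut.conjNormal g : MulAut T) ∈ (MulAut.conj : T →* MulAut T).range := by
        change _ ∈ Cfsg.Inn T
        rw [hinn]; exact Subgroup.mem_top _
      have hgC : g * (t : G)⁻¹ ∈ C := by
        rw [hC]
        refine Subgroup.mem_centralizer_iff.mpr fun x hx => ?_
        have h1 := congrArg Subtype.val (MulEquiv.congr_fun ht ⟨(t : G)⁻¹ * x * t, T.mul_mem (T.mul_mem (T.inv_mem t.2) hx) t.2⟩)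
        simp only [MulAut.conj_apply, Subgroup.coe_mul, InvMemClass.coe_inv, MulAut.conjNormal_apply] at h1
        simp only [mul_assoc, mul_inv_cancel_left, mul_inv_cancel, mul_one] at h1
        calc x * (g * (t : G)⁻¹) = (g * ((t : G)⁻¹ * (x * ((t : G) * g⁻¹)))) * (g * (t : G)⁻¹) := by rw [← h1]
          _ = g * (t : G)⁻¹ * x := by simp only [mul_assoc, inv_mul_cancel_left, mul_inv_cancel, mul_one]
      exact ⟨(⟨_, hgC⟩, t), by show g * (t : G)⁻¹ * t = g; rw [inv_mul_cancel_right]⟩
  let E : C × T ≃* G := MulEquiv.ofBijective m hm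
  have hC12 : Nat.card C = 12 := by
    have h := Nat.card_congr E.toEquiv
    rw [Nat.card_prod, hTcard, hn] at h
    omega
  -- the degree divisible by 33
  have hirr : IsIrrCharacter (C × T) fun x => (χ₂ : G → ℂ) (E x) :=
    (Char.isIrrCharacter_comp_equiv E).mpr χ₂.2
  obtain ⟨φ, ψ, hφ, hψ, hfun⟩ := (Char.isIrr_prod_iff _).mp hirr
  have h1 : (charDegree (χ₂ : G → ℂ) : ℂ) =
      (charDegree ((⟨φ, hφ⟩ : IrrCharacter C) : C → ℂ) : ℂ) * (charDegree ((⟨ψ, hψ⟩ : IrrCharacter T) : T → ℂ) : ℂ) := by
    rw [← BrauerReynolds.value_one, ← BrauerReynolds.value_one, ← BrauerReynolds.value_one]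
    have := congrFun hfun 1
    simp only [map_one, Prod.fst_one, Prod.snd_one] at this
    exact this
  have h1' : charDegree (χ₂ : G → ℂ) =
      charDegree ((⟨φ, hφ⟩ : IrrCharacter C) : C → ℂ) * charDegree ((⟨ψ, hψ⟩ : IrrCharacter T) : T → ℂ) := by
    exact_mod_cast h1
  rw [h1'] at h33
  have hφd : charDegree ((⟨φ, hφ⟩ : IrrCharacter C) : C → ℂ) ∣ 12 := hC12 ▸ BrauerReynolds.degree_dvd _
  letI : Fintype T := Fintype.ofFinite T
  have hψm : charDegree ((⟨ψ, hψ⟩ : IrrCharacter T) : T → ℂ) ∈
      ({1, 10, 10, 10, 45, 16, 16, 11, 44, 55} : Multiset ℕ) := by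
    rw [← BrauerTuan.degrees_7920 hTcard]
    exact Multiset.mem_map_of_mem _ (Finset.mem_univ _)
  have h3 : 3 ∣ charDegree ((⟨φ, hφ⟩ : IrrCharacter C) : C → ℂ) := by
    have hφ11 : ¬ 11 ∣ charDegree ((⟨φ, hφ⟩ : IrrCharacter C) : C → ℂ) := fun h => by
      have := h.trans hφd; norm_num at this
    have hψ11 := ((by norm_num : Nat.Prime 11).dvd_mul.mp ((by norm_num : (11 : ℕ) ∣ 33).trans h33)).resolve_left hφ11
    refine (Nat.prime_three.dvd_mul.mp ((by norm_num : (3 : ℕ) ∣ 33).trans h33)).resolve_right fun h => ?_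
    generalize charDegree ((⟨ψ, hψ⟩ : IrrCharacter T) : T → ℂ) = w at hψm hψ11 h
    simp only [Multiset.insert_eq_cons, Multiset.mem_cons, Multiset.mem_singleton] at hψm
    omega
  obtain ⟨eC⟩ := equiv_alt_four hC12 _ h3
  exact ⟨E.symm.trans (eC.prodCongr eT)⟩

end CfsgLib.M12Order.DegGraph
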