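import Cfsg.Agent.Lib.M12Order.DegFive

/-!
# Two degrees of M12: a multiple of 55 and a multiple of 33

The degrees outside the principal 11-block are `11 e`.  The column of an element of order five, whose
centraliser has order 10, and one of a non-central involution decide the divisibility of the `e`.
-/

set_option autoImplicit false
set_option linter.unusedSectionVars false
set_option linter.style.haveILetI false
set_option maxRecDepth 4000

namespace CfsgLib.M12Order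

open Cfsg
open scoped ComplexConjugate CfsgLib.Char
open CfsgLib CfsgLib.BrauerTuan

/-- The pairs of a degree quotient and a nonzero small value at an element of order five, as weight, square
and product. -/
def degOpts (L : List ℕ) : List (ℕ × ℕ × ℤ) :=
  L.flatMap fun e : ℕ => ([-2, -1, 1, 2] : List ℤ).filterMap fun a =>
    if ((e : ℤ) - a) % 5 = 0 then some ((a * a).toNat, e * e, (e : ℤ) * a) else none

/-- One more option. -/
def degStep (O S : List (ℕ × ℕ × ℤ)) : List (ℕ × ℕ × ℤ) :=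
  (S ++ S.flatMap fun s => O.filterMap fun o =>
    if s.1 + o.1 ≤ 5 ∧ s.2.1 + o.2.1 ≤ 450 then some (s.1 + o.1, s.2.1 + o.2.1, s.2.2 + o.2.2) else none).eraseDups

/-- The sums of at most `n` options. -/
def degLayer (O : List (ℕ × ℕ × ℤ)) : ℕ → List (ℕ × ℕ × ℤ)
  | 0 => [(0, 0, 0)]
  | n + 1 => degStep O (degLayer O n)

theorem degLayer_mono (O : List (ℕ × ℕ × ℤ)) : ∀ {m n : ℕ}, m ≤ n → ∀ s ∈ degLayer O m, s ∈ degLayer O n := by
  intro m n h
  induction h with
  | refl => exact fun s hs => hs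
  | step _ ih =>
    intro s hs
    rw [degLayer, degStep, List.mem_eraseDups, List.mem_append]
    exact Or.inl (ih s hs)

theorem mem_degLayer {ι : Type*} [DecidableEq ι] {O : List (ℕ × ℕ × ℤ)} (hO : ∀ o ∈ O, 1 ≤ o.1)
    (s : Finset ι) (w E : ι → ℕ) (S : ι → ℤ) (h : ∀ i ∈ s, (w i, E i, S i) ∈ O) (hw : ∑ i ∈ s, w i ≤ 5)
    (hE : ∑ i ∈ s, E i ≤ 450) : (∑ i ∈ s, w i, ∑ i ∈ s, E i, ∑ i ∈ s, S i) ∈ degLayer O 5 := by
  suffices key : (∑ i ∈ s, w i, ∑ i ∈ s, E i, ∑ i ∈ s, S i) ∈ degLayer O s.card by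
    refine degLayer_mono O ?_ _ key
    calc s.card = ∑ _i ∈ s, 1 := by simp
      _ ≤ ∑ i ∈ s, w i := Finset.sum_le_sum fun i hi => hO _ (h i hi)
      _ ≤ 5 := hw
  induction s using Finset.induction_on with
  | empty => simp [degLayer]
  | insert a t ha ih =>
    rw [Finset.sum_insert ha] at hw hE
    rw [Finset.sum_insert ha, Finset.sum_insert ha, Finset.sum_insert ha, Finset.card_insert_of_notMem ha,
      degLayer, degStep, List.mem_eraseDups, List.mem_append]
    refine Or.inr (List.mem_flatMap.mpr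
      ⟨_, ih (fun i hi => h i (Finset.mem_insert_of_mem hi)) (by omega) (by omega),
      List.mem_filterMap.mpr ⟨_, h a (Finset.mem_insert_self a t), ?_⟩⟩)
    rw [if_pos ⟨by dsimp only; omega, by dsimp only; omega⟩]
    simp [add_comm]

theorem key_no_five : ∀ s ∈ degLayer (degOpts [1, 2, 3, 4, 6, 8, 9, 12, 16, 18]) 5,
    s.2.1 = 450 → s.2.2 ≠ 15 := by decide +kernel

theorem key_no_three : ∀ s ∈ degLayer (degOpts [1, 2, 4, 8, 16]) 5, s.2.2 = 15 → s.2.1 = 275 := by
  decide +kernel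

set_option synthInstance.maxSize 2000 in
theorem key_list : ∀ e < 22, 8640 % e = 0 → e % 5 ≠ 0 →
    e ∈ ([1, 2, 3, 4, 6, 8, 9, 12, 16, 18] : List ℕ) ∧ (e % 3 ≠ 0 → e ∈ ([1, 2, 4, 8, 16] : List ℕ)) := by
  decide +kernel

theorem sq_bound_five (q : ℤ) (hq : q ≠ 0) : (25 : ℤ) ≤ (5 * q) ^ 2 := by
  rcases Int.lt_or_lt_of_ne hq with h | h <;> nlinarith

theorem sq_bound_ten (q : ℤ) (hq : 2 ≤ q ∨ q ≤ -2) : (100 : ℤ) ≤ (5 * q) ^ 2 := by
  rcases hq with h | h <;> nlinarith

open scoped _root_.Classical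

universe u

variable {G : Type u} [Group G] [Fintype G]

/-- An element of order five with four conjugates in the subgroup it generates has integral values. -/
theorem rational_of_five {v : G} (hv : orderOf v = 5)
    (h : Nat.card (Subgroup.normalizer (Subgroup.zpowers v : Set G)) =
      4 * Nat.card (Subgroup.centralizer ({v} : Set G))) (χ : IrrCharacter G) :
    ∃ a : ℤ, (χ : G → ℂ) v = a := by
  set N := Subgroup.normalizer (Subgroup.zpowers v : Set G) with hN
  set C := Subgroup.centralizer ({v} : Set G) with hC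
  obtain ⟨n, hn, hn1, hn4⟩ : ∃ n ∈ N, n * v * n⁻¹ ≠ v ∧ n * v * n⁻¹ ≠ v⁻¹ := by
    by_contra hno
    push Not at hno
    have hCN : C ≤ N := fun c hc => by
      refine Subgroup.centralizer_le_normalizer _ ?_
      rw [Subgroup.zpowers_eq_closure, Subgroup.centralizer_closure]
      exact hc
    have hidx : (C.subgroupOf N).index = 4 := by
      have h1 := (C.subgroupOf N).index_mul_card
      rw [Nat.card_congr (Subgroup.subgroupOfEquivOfLe hCN).toEquiv, h] at h1
      exact Nat.eq_of_mul_eq_mul_right Nat.card_pos h1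
    let f : N ⧸ C.subgroupOf N → ({v, v⁻¹} : Set G) := Quotient.lift
      (fun n : N => (⟨(n : G) * v * (n : G)⁻¹, by
        rcases em ((n : G) * v * (n : G)⁻¹ = v) with e | e
        · exact Or.inl e
        · exact Or.inr (hno n n.2 e)⟩ : ({v, v⁻¹} : Set G))) (fun a b hab => by
      have h' := Subgroup.mem_subgroupOf.mp (QuotientGroup.leftRel_apply.mp hab)
      rw [Subgroup.coe_mul, Subgroup.coe_inv, hC, Subgroup.mem_centralizer_singleton_iff] at h'
      refine Subtype.ext ?_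
      show (a : G) * v * (a : G)⁻¹ = (b : G) * v * (b : G)⁻¹
      calc (a : G) * v * (a : G)⁻¹ = (a : G) * (v * ((a : G)⁻¹ * b)) * (b : G)⁻¹ := by group
        _ = (a : G) * ((a : G)⁻¹ * b * v) * (b : G)⁻¹ := by rw [h']
        _ = (b : G) * v * (b : G)⁻¹ := by group)
    have hf : Function.Injective f := by
      intro a b
      induction a using Quotient.inductionOn with | _ a =>
      induction b using Quotient.inductionOn with | _ b =>
      intro h'
      refine Quotient.sound ?_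
      show QuotientGroup.leftRel _ a b
      rw [QuotientGroup.leftRel_apply, Subgroup.mem_subgroupOf, Subgroup.coe_mul, Subgroup.coe_inv, hC,
        Subgroup.mem_centralizer_singleton_iff]
      have e : (a : G) * v * (a : G)⁻¹ = (b : G) * v * (b : G)⁻¹ := congrArg Subtype.val h'
      calc (a : G)⁻¹ * b * v = (a : G)⁻¹ * ((b : G) * v * (b : G)⁻¹) * b := by group
        _ = v * ((a : G)⁻¹ * b) := by rw [← e]; group
    have h2 : Nat.card ({v, v⁻¹} : Set G) ≤ 2 := by
      rw [Nat.card_coe_set_eq]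
      exact (Set.ncard_insert_le _ _).trans (by simp)
    have h3 := (Nat.card_le_card_of_injective f hf).trans h2
    rw [show Nat.card (N ⧸ C.subgroupOf N) = 4 from hidx] at h3
    omega
  have hmem : n * v * n⁻¹ ∈ Subgroup.zpowers v :=
    (Subgroup.mem_normalizer_iff.mp hn v).mp (Subgroup.mem_zpowers v)
  obtain ⟨j, hj⟩ := mem_powers_iff_mem_zpowers.mpr hmem
  have hj' : v ^ (j % 5) = n * v * n⁻¹ := by rw [← hv, pow_mod_orderOf]; exact hj
  have h23 : j % 5 = 2 ∨ j % 5 = 3 := by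
    have h5 : v ^ 5 = 1 := hv ▸ pow_orderOf_eq_one v
    have hv4 : v ^ 4 = v⁻¹ := eq_inv_of_mul_eq_one_left (by rw [← pow_succ]; exact h5)
    rcases (show j % 5 = 0 ∨ j % 5 = 1 ∨ j % 5 = 2 ∨ j % 5 = 3 ∨ j % 5 = 4 by omega) with e | e | e | e | e <;>
      rw [e] at hj'
    · exfalso
      rw [pow_zero, eq_comm, conj_eq_one_iff] at hj'
      rw [hj', orderOf_one] at hv
      omega
    · exact absurd ((pow_one v).symm.trans hj').symm hn1
    · exact Or.inl e
    · exact Or.inr e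
    · exact absurd (hj'.symm.trans hv4) hn4
  obtain ⟨ρn, ρ, hρ⟩ := Char.isCharacter_of_isIrr χ.2
  have hconj : ∀ g : G, (χ : G → ℂ) (n * g * n⁻¹) = (χ : G → ℂ) g := fun g => by
    rw [← hρ]; exact Representation.char_conj ρ g n
  have hpow : ∀ i : ℕ, (χ : G → ℂ) (v ^ (i * (j % 5))) = (χ : G → ℂ) (v ^ i) := fun i => by
    rw [mul_comm, pow_mul, hj', conj_pow, hconj]
  have hall : ∀ k, k % 5 ≠ 0 → (χ : G → ℂ) (v ^ k) = (χ : G → ℂ) v := by
    intro k hk
    rw [← pow_mod_orderOf v k, hv]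
    have e1 := hpow 1
    have e2 := hpow (1 * (j % 5))
    have e3 := hpow (1 * (j % 5) * (j % 5))
    rw [pow_one] at e1
    rw [← pow_mod_orderOf v (1 * (j % 5) * (j % 5)), hv] at e2 e3
    rw [← pow_mod_orderOf v (1 * (j % 5) * (j % 5) * (j % 5)), hv] at e3
    rcases h23 with e | e <;> rw [e] at e1 e2 e3 <;> norm_num at e1 e2 e3 <;>
      rcases (show k % 5 = 1 ∨ k % 5 = 2 ∨ k % 5 = 3 ∨ k % 5 = 4 by omega) with f | f | f | f <;> rw [f] <;>
      first
        | rw [pow_one]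
        | rw [e1]
        | rw [e2, e1]
        | rw [e3, e2, e1]
  obtain ⟨q, hq⟩ := (Char.rat_value_iff (Char.isCharacter_of_isIrr χ.2) v).mpr fun k hk => hall k (by
    intro hk0
    have h5 : 5 ∣ Nat.card G := hv ▸ orderOf_dvd_natCard v
    exact absurd (hk.coprime_dvd_right h5) fun hc => by
      have := hc.coprime_dvd_left (Nat.dvd_of_mod_eq_zero hk0)
      norm_num at this)
  obtain ⟨a, ha⟩ := Char.exists_int_of_isIntegral_rat (q := q)
    (hq ▸ Char.isIntegral_value (Char.isCharacter_of_isIrr χ.2) v)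
  exact ⟨a, by rw [hq, ha]; simp⟩

/-- An integral value at an element of order five is congruent to the degree. -/
theorem five_congr {v : G} (hv : orderOf v = 5) {χ : IrrCharacter G} {a : ℤ} (ha : (χ : G → ℂ) v = a)
    (hall : ∀ i : Fin 5, (i : ℕ) ≠ 0 → (χ : G → ℂ) (v ^ (i : ℕ)) = a) :
    (5 : ℤ) ∣ (charDegree (χ : G → ℂ) : ℤ) - a := by
  obtain ⟨K, hK⟩ := exists_nat_sum_subgroup (Char.isCharacter_of_isIrr χ.2) (Subgroup.zpowers v)
  rw [sum_zpowers_of_eq _ hv, Fin.sum_univ_five, Nat.card_zpowers, hv, Fin.val_zero, pow_zero,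
    BrauerReynolds.value_one, hall 1 (by decide), hall 2 (by decide), hall 3 (by decide), hall 4 (by decide)]
    at hK
  have h : (charDegree (χ : G → ℂ) : ℤ) + a + a + a + a = 5 * (K : ℤ) := by exact_mod_cast hK
  exact ⟨K - a, by linarith⟩

variable [IsSimpleGroup G] [Fact (Nat.Prime 11)] (T : Tbl G)

set_option maxHeartbeats 2000000 in
include T in
/-- The degrees needed. -/
theorem Tbl.degrees_of_cent {v : G} (hv : orderOf v = 5)
    (hle : Nat.card (Subgroup.centralizer ({v} : Set G)) ≤ 12) {t : G} (ht : orderOf t = 2)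
    (hnc : ∀ s : G, orderOf s = 2 → Nat.card (Subgroup.centralizer ({s} : Set G)) = 192 → ¬ IsConj s t)
    (hs : ∃ s : G, orderOf s = 2 ∧ Nat.card (Subgroup.centralizer ({s} : Set G)) = 192) :
    (∃ χ : IrrCharacter G, 55 ∣ charDegree (χ : G → ℂ)) ∧ ∃ χ : IrrCharacter G, 33 ∣ charDegree (χ : G → ℂ) := by
  have hn := T.B.T.card_eq
  haveI : Fact (Nat.Prime 5) := ⟨by norm_num⟩
  -- the centraliser of `v` has order ten
  obtain ⟨k, T5, h5⟩ := exists_ctx_of_orderBad hn 5 [5, 11] 308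
    [(66, 2, 144), (176, 4, 27), (396, 2, 24), (396, 4, 12), (1056, 2, 9), (2376, 2, 4), (2376, 4, 2)]
    (by norm_num) (by norm_num) (by norm_num) (by norm_num) (by norm_num)
    (by simp <;> norm_num) order_bad_five
  obtain ⟨R, hR⟩ := (IsPGroup.of_card (n := 1) (p := 5)
    (by rw [Nat.card_zpowers, hv, pow_one] : Nat.card (Subgroup.zpowers v) = 5 ^ 1)).exists_le_sylow
  obtain ⟨g, hg⟩ := MulAction.exists_smul_eq G T5.P R
  obtain ⟨w, hwP, hw, hzw⟩ := exists_gen T5
  have hCP : Nat.card (Subgroup.centralizer ((T5.P : Subgroup G) : Set G)) = 5 * k := T5.card_C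
  have hR5 : (R : Subgroup G) = Subgroup.zpowers v := (Subgroup.eq_of_le_of_card_ge hR (by
    rw [Nat.card_zpowers, hv, R.card_eq_multiplicity, hn, show (95040 : ℕ) = 5 * 19008 by norm_num,
      Nat.factorization_mul (by norm_num) (by norm_num), Finsupp.add_apply,
      Nat.Prime.factorization_self (by norm_num), Nat.factorization_eq_zero_of_not_dvd (by norm_num)]
    norm_num)).symm
  have hNR : Nat.card (Subgroup.normalizer (Subgroup.zpowers v : Set G)) * (1 + T5.D.n * 5) = 95040 := by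
    rw [← hR5, ← T5.D.card_sylow, show Nat.card (Sylow 5 G) =
      (Subgroup.normalizer ((R : Subgroup G) : Set G)).index from Sylow.card_eq_index_normalizer R,
      Subgroup.card_mul_index, hn]
  have hC : Nat.card (Subgroup.centralizer ({v} : Set G)) = 5 * k := by
    have he : Subgroup.centralizer ({v} : Set G) =
        (Subgroup.centralizer ((T5.P : Subgroup G) : Set G)).map (MulAut.conj g).toMonoidHom := by
      ext y
      have hcv : y ∈ Subgroup.centralizer ({v} : Set G) ↔ ∀ z ∈ (R : Subgroup G), z * y = y * z := by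
        rw [hR5, ← Subgroup.centralizer_closure, ← Subgroup.zpowers_eq_closure]
        exact Subgroup.mem_centralizer_iff
      rw [hcv, Subgroup.mem_map]
      constructor
      · intro h
        refine ⟨g⁻¹ * y * g, Subgroup.mem_centralizer_iff.mpr fun z hz => ?_, by
          show g * (g⁻¹ * y * g) * g⁻¹ = y
          group⟩
        have hzR : g * z * g⁻¹ ∈ (R : Subgroup G) := by rw [← hg]; exact ⟨z, hz, rfl⟩
        calc z * (g⁻¹ * y * g) = g⁻¹ * ((g * z * g⁻¹) * y) * g := by group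
          _ = g⁻¹ * y * g * z := by rw [h _ hzR]; group
      · rintro ⟨y₀, hy₀, rfl⟩ z hz
        rw [← hg] at hz
        obtain ⟨z₀, hz₀, rfl⟩ := hz
        show g * z₀ * g⁻¹ * (g * y₀ * g⁻¹) = g * y₀ * g⁻¹ * (g * z₀ * g⁻¹)
        calc g * z₀ * g⁻¹ * (g * y₀ * g⁻¹) = g * (z₀ * y₀) * g⁻¹ := by group
          _ = _ := by rw [Subgroup.mem_centralizer_iff.mp hy₀ z₀ hz₀]; group
    rw [he, Subgroup.card_map_of_injective (MulEquiv.injective _), hCP]
  simp only [List.mem_cons, List.not_mem_nil, or_false, Prod.mk.injEq] at h5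
  have hk2 : k = 2 ∧ 1 + T5.D.n * 5 = 2376 := by rw [hC] at hle; omega
  have hrat : ∀ χ : IrrCharacter G, ∃ a : ℤ, (χ : G → ℂ) v = a := rational_of_five hv (by
    rw [hk2.2] at hNR; rw [hC, hk2.1]; omega)
  rw [hC, hk2.1] at hle
  choose a ha using hrat
  have hv1 : v ≠ 1 := fun e => by rw [e, orderOf_one] at hv; omega
  have hall : ∀ χ : IrrCharacter G, ∀ i : Fin 5, (i : ℕ) ≠ 0 → (χ : G → ℂ) (v ^ (i : ℕ)) = a χ := by
    intro χ i hi
    have hh := value_pow_eq (Char.isCharacter_of_isIrr χ.2) (g := v) ⟨a χ, ha χ⟩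
      (i := (i : ℕ)) (k := if (i : ℕ) = 1 then 1 else if (i : ℕ) = 2 then 7 else if (i : ℕ) = 3 then 13 else 19)
      (by rw [hv]; fin_cases i <;> simp at hi ⊢) (by rw [hn]; fin_cases i <;> norm_num)
    rw [hh, ha χ]
  have hmod : ∀ χ : IrrCharacter G, (5 : ℤ) ∣ (charDegree (χ : G → ℂ) : ℤ) - a χ := fun χ =>
    five_congr hv (ha χ) (hall χ)
  -- the column of `v`
  obtain ⟨d0, d1, d2, d3, dy⟩ := T.deg
  obtain ⟨s0, s1, s2, s3, sy⟩ := T.signs
  have hval0 : a (T.B.N.X 0) = 0 := by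
    have h := vanish_five hn d0 (by norm_num) (g := v) (by rw [hv])
    rw [ha] at h; exact_mod_cast h
  have hval2 : a (T.B.N.X 2) = 0 := by
    have h := vanish_five hn d2 (by norm_num) (g := v) (by rw [hv])
    rw [ha] at h; exact_mod_cast h
  have hbound := column_bound_one (Finset.univ : Finset (IrrCharacter G)) v a (fun χ _ => ha χ)
  rw [hC, hk2.1, ← Finset.sum_add_sum_compl (T.B.T.D.X ∪ T.B.T.D.Y)] at hbound
  generalize hO : (T.B.T.D.X ∪ T.B.T.D.Y)ᶜ = O at hbound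
  have hY : ∀ ψ ∈ T.B.T.D.Y, a ψ = 1 + (-(a (T.B.N.X 1)) + a (T.B.N.X 3)) := by
    intro ψ hψ
    have hreg : ¬ 11 ∣ orderOf v := by rw [hv]; norm_num
    have h1 := T.B.N.rel v hreg
    have h2 := (T.B.T.D.rel ψ hψ v hreg).trans (T.B.T.D.rel _ T.B.N.memY v hreg).symm
    rw [Fin.sum_univ_four, s0, s1, s2, s3, ha, ha, ha, ha, ha, sy, hval0, hval2] at h1
    rw [ha, ha, sy] at h2
    push_cast at h1 h2
    have h3 : (a ψ : ℂ) = 1 + (-(a (T.B.N.X 1) : ℂ) + a (T.B.N.X 3)) := by linear_combination h1 + h2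
    exact_mod_cast h3
  have hatriv : a (Blocks.trivIrr G) = 1 := by
    have h := ha (Blocks.trivIrr G)
    rw [show (Blocks.trivIrr G : G → ℂ) v = 1 by simp [Blocks.trivIrr]] at h
    exact_mod_cast h.symm
  rw [T.B.sum_block (fun χ => a χ ^ 2) (Y := (1 + (-(a (T.B.N.X 1)) + a (T.B.N.X 3))) ^ 2)
    (fun ψ hψ => by rw [hY ψ hψ]), hatriv, hval0, hval2] at hbound
  norm_num at hbound
  have hO0 : (0 : ℤ) ≤ ∑ χ ∈ O, a χ ^ 2 := Finset.sum_nonneg fun χ _ => sq_nonneg _
  have h1 := hmod (T.B.N.X 1)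
  have h3 := hmod (T.B.N.X 3)
  rw [d1] at h1
  rw [d3] at h3
  have hsmall : ∀ x : ℤ, (5 : ℤ) ∣ 54 - x → x ^ 2 ≤ 9 → x = -1 := by
    intro x hx hx2
    have hl : -3 ≤ x ∧ x ≤ 3 := by constructor <;> nlinarith
    omega
  have hsqY := sq_nonneg (1 + (-(a (T.B.N.X 1)) + a (T.B.N.X 3)))
  have ha1 : a (T.B.N.X 1) = -1 := hsmall _ (by omega) (by linarith [sq_nonneg (a (T.B.N.X 3))])
  have ha3 : a (T.B.N.X 3) = -1 := hsmall _ (by omega) (by linarith [sq_nonneg (a (T.B.N.X 1))])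
  rw [ha1, ha3] at hbound hY
  replace hY : ∀ ψ ∈ T.B.T.D.Y, a ψ = 1 := fun ψ hψ => by rw [hY ψ hψ]; norm_num
  norm_num at hbound
  have hout5 : ∑ χ ∈ O, a χ ^ 2 ≤ 5 := by linarith
  -- the degrees outside the block
  have hd11 : ∀ χ ∈ O, 11 ∣ charDegree (χ : G → ℂ) := fun χ hχ =>
    T.B.T.dvd_of_not_mem (Finset.mem_compl.mp (hO ▸ hχ))
  set e : IrrCharacter G → ℕ := fun χ => charDegree (χ : G → ℂ) / 11 with he
  have hde : ∀ χ ∈ O, charDegree (χ : G → ℂ) = 11 * e χ := fun χ hχ =>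
    (Nat.mul_div_cancel' (hd11 χ hχ)).symm
  have hesq : ∑ χ ∈ O, e χ * e χ = 450 := by
    have h := Char.sum_sq_degree (G := G)
    simp only [BrauerReynolds.value_one] at h
    rw [hn] at h
    have h' : ∑ χ : IrrCharacter G, (charDegree (χ : G → ℂ) : ℤ) ^ 2 = 95040 := by
      exact_mod_cast h
    rw [← Finset.sum_add_sum_compl (T.B.T.D.X ∪ T.B.T.D.Y), T.B.sum_block _ (Y := (16 : ℤ) ^ 2) fun ψ hψ => by
      rw [T.B.T.D.degY_eq ψ hψ _ T.B.N.memY, dy]; norm_num,
      d0, d1, d2, d3, BrauerReynolds.degree_triv, hO,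
      Finset.sum_congr rfl (g := fun χ => 121 * ((e χ * e χ : ℕ) : ℤ)) fun χ hχ => by
        rw [hde χ hχ]; push_cast; ring, ← Finset.mul_sum, ← Nat.cast_sum] at h'
    push_cast at h'
    have hc : (((∑ χ ∈ O, e χ * e χ : ℕ)) : ℤ) = ∑ χ ∈ O, (e χ : ℤ) * (e χ : ℤ) := Nat.cast_sum _ _ |>.trans
      (Finset.sum_congr rfl fun χ _ => Nat.cast_mul _ _)
    rw [← hc] at h'
    omega
  have hea : ∑ χ ∈ O, (e χ : ℤ) * a χ = 15 := by
    have h := Char.sum_degree_mul_irr v
    rw [if_neg hv1] at h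
    simp only [BrauerReynolds.value_one, ha] at h
    have h' : ∑ χ : IrrCharacter G, (charDegree (χ : G → ℂ) : ℤ) * a χ = 0 := by exact_mod_cast h
    rw [← Finset.sum_add_sum_compl (T.B.T.D.X ∪ T.B.T.D.Y), T.B.sum_block _ (Y := (16 : ℤ) * 1) fun ψ hψ => by
      rw [T.B.T.D.degY_eq ψ hψ _ T.B.N.memY, dy, hY ψ hψ]; norm_num,
      d0, d1, d2, d3, BrauerReynolds.degree_triv, hatriv, hval0, hval2, ha1, ha3, hO,
      Finset.sum_congr rfl (g := fun χ => 11 * ((e χ : ℤ) * a χ)) fun χ hχ => by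
        rw [hde χ hχ]; push_cast; ring, ← Finset.mul_sum] at h'
    push_cast at h'
    linarith
  have hele : ∀ χ ∈ O, e χ < 22 ∧ 8640 % e χ = 0 := fun χ hχ => by
    have h1 : e χ * e χ ≤ 450 := hesq ▸ Finset.single_le_sum (f := fun χ => e χ * e χ) (fun _ _ => Nat.zero_le _) hχ
    obtain ⟨n, hn1, -, hnd⟩ := Char.exists_degree_dvd_card χ.2
    rw [BrauerReynolds.value_one] at hn1
    rw [← Nat.cast_inj.mp hn1, hn, hde χ hχ, show (95040 : ℕ) = 11 * 8640 by norm_num] at hnd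
    exact ⟨by nlinarith, Nat.mod_eq_zero_of_dvd (Nat.dvd_of_mul_dvd_mul_left (by norm_num) hnd)⟩
  -- the part with `e` prime to five
  set A := O.filter fun χ => e χ % 5 ≠ 0 with hA
  have hA5 : ∀ χ ∈ O, e χ % 5 = 0 → a χ = 0 := fun χ hχ h => by
    have h' := vanish_five hn (χ := χ) rfl (by rw [hde χ hχ]; exact Dvd.dvd.mul_left (Nat.dvd_of_mod_eq_zero h) 11)
      (g := v) (by rw [hv])
    rw [ha] at h'; exact_mod_cast h'
  have hAopt : ∀ χ ∈ A, a χ * a χ ≤ 5 ∧ (5 : ℤ) ∣ (e χ : ℤ) - a χ ∧ a χ ≠ 0 := by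
    intro χ hχ
    obtain ⟨hχO, hχ5⟩ := Finset.mem_filter.mp hχ
    have h1 := (Finset.single_le_sum (f := fun χ => a χ ^ 2) (fun _ _ => sq_nonneg _) hχO).trans hout5
    have h2 := hmod χ
    rw [hde χ hχO] at h2
    push_cast at h2
    refine ⟨by rw [pow_two] at h1; exact h1, by omega, fun h0 => hχ5 (by omega)⟩
  set W : IrrCharacter G → ℕ := fun χ => (a χ * a χ).toNat with hW
  have hsumW : ∑ χ ∈ A, W χ ≤ 5 := by
    have h1 : ((∑ χ ∈ A, W χ : ℕ) : ℤ) = ∑ χ ∈ A, a χ ^ 2 := by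
      rw [Nat.cast_sum]
      exact Finset.sum_congr rfl fun χ _ => by rw [hW, Int.toNat_of_nonneg (mul_self_nonneg _), pow_two]
    have h2 := Finset.sum_le_sum_of_subset_of_nonneg (f := fun χ => a χ ^ 2) (Finset.filter_subset (fun χ => e χ % 5 ≠ 0) O)
      (fun χ _ _ => sq_nonneg _)
    rw [← hA] at h2
    omega
  have hsumA : ∑ χ ∈ A, e χ * e χ ≤ 450 :=
    hesq ▸ Finset.sum_le_sum_of_subset_of_nonneg (Finset.filter_subset _ O) (fun _ _ _ => Nat.zero_le _)
  have heaA : ∑ χ ∈ A, (e χ : ℤ) * a χ = 15 := by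
    rw [← hea, hA, Finset.sum_filter]
    refine Finset.sum_congr rfl fun χ hχ => ?_
    split_ifs with h
    · rfl
    · rw [hA5 χ hχ (by omega), mul_zero]
  have hopt : ∀ (L : List ℕ) χ, χ ∈ A → e χ ∈ L → (W χ, e χ * e χ, (e χ : ℤ) * a χ) ∈ degOpts L := by
    intro L χ hχ hL
    obtain ⟨h1, h2, h0⟩ := hAopt χ hχ
    refine List.mem_flatMap.mpr ⟨e χ, hL, List.mem_filterMap.mpr ⟨a χ, ?_, ?_⟩⟩
    · have hl : -2 ≤ a χ ∧ a χ ≤ 2 := by constructor <;> nlinarith
      simp only [List.mem_cons, List.not_mem_nil, or_false]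
      omega
    · rw [if_pos (Int.emod_eq_zero_of_dvd h2)]
  have hpos : ∀ L : List ℕ, ∀ o ∈ degOpts L, 1 ≤ o.1 := by
    intro L o ho
    obtain ⟨x, -, hx⟩ := List.mem_flatMap.mp ho
    obtain ⟨y, hy, hy'⟩ := List.mem_filterMap.mp hx
    split_ifs at hy' with hc
    simp only [List.mem_cons, List.not_mem_nil, or_false] at hy
    obtain rfl := Option.some.inj hy'
    rcases hy with rfl | rfl | rfl | rfl <;> norm_num
  refine ⟨?_, ?_⟩
  · by_contra hno
    push Not at hno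
    have hAO : A = O := Finset.filter_eq_self.mpr fun χ hχ h => hno χ (by
      rw [hde χ hχ]; exact (show 55 = 11 * 5 from rfl) ▸ Nat.mul_dvd_mul_left 11 (Nat.dvd_of_mod_eq_zero h))
    have hm := mem_degLayer (hpos _) A W (fun χ => e χ * e χ) (fun χ => (e χ : ℤ) * a χ)
      (fun χ hχ => hopt _ χ hχ (key_list _ (hele χ (Finset.mem_of_mem_filter χ hχ)).1
        (hele χ (Finset.mem_of_mem_filter χ hχ)).2 (Finset.mem_filter.mp hχ).2).1) hsumW hsumA
    exact key_no_five _ hm (by rw [hAO]; exact hesq) heaA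
  · by_contra hno
    push Not at hno
    have h3 : ∀ χ ∈ O, e χ % 3 ≠ 0 := fun χ hχ h => hno χ (by
      rw [hde χ hχ]; exact (show 33 = 11 * 3 from rfl) ▸ Nat.mul_dvd_mul_left 11 (Nat.dvd_of_mod_eq_zero h))
    have hm := mem_degLayer (hpos _) A W (fun χ => e χ * e χ) (fun χ => (e χ : ℤ) * a χ)
      (fun χ hχ => hopt _ χ hχ ((key_list _ (hele χ (Finset.mem_of_mem_filter χ hχ)).1
        (hele χ (Finset.mem_of_mem_filter χ hχ)).2 (Finset.mem_filter.mp hχ).2).2
        (h3 χ (Finset.mem_of_mem_filter χ hχ)))) hsumW hsumA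
    have h275 : ∑ χ ∈ A, e χ * e χ = 275 := key_no_three _ hm heaA
    set B := O.filter fun χ => ¬ e χ % 5 ≠ 0 with hB
    have hB175 : ∑ χ ∈ B, e χ * e χ = 175 := by
      have h := Finset.sum_filter_add_sum_filter_not O (fun χ => e χ % 5 ≠ 0) (fun χ => e χ * e χ)
      rw [← hA, ← hB, h275, hesq] at h
      omega
    -- the column of the other involution
    have ht1 : t ≠ 1 := fun h => by rw [h, orderOf_one] at ht; omega
    have ht2 : t * t = 1 := by rw [← pow_two, ← ht, pow_orderOf_eq_one]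
    obtain ⟨A', Y', hA', hY', hrow⟩ := T.B.invol_row ht
    rw [T.degs, rows_main] at hrow
    set c := Nat.card (Subgroup.centralizer ({t} : Set G)) with hc
    have hb : ∀ χ : IrrCharacter G, (χ : G → ℂ) t = ival χ t := fun χ =>
      ival_spec (exists_int_of_involution (Char.isCharacter_of_isIrr χ.2) ht2)
    have hcb := column_bound_one (Finset.univ : Finset (IrrCharacter G)) t (fun χ => ival χ t)
      (fun χ _ => hb χ)
    rw [← Finset.sum_add_sum_compl (T.B.T.D.X ∪ T.B.T.D.Y), T.B.sum_block _ (Y := Y' ^ 2) fun ψ hψ => by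
      rw [ival_eq (hY' ψ hψ)], ival_triv, ival_eq (hA' 0), ival_eq (hA' 1), ival_eq (hA' 2), ival_eq (hA' 3),
      hO, ← hc] at hcb
    have hBle := Finset.sum_le_sum_of_subset_of_nonneg (f := fun χ => ival χ t ^ 2)
      (Finset.filter_subset (fun χ => ¬ e χ % 5 ≠ 0) O) (fun χ _ _ => sq_nonneg _)
    rw [← hB] at hBle
    simp only [rowsM12, List.mem_cons, List.not_mem_nil, or_false, Prod.mk.injEq, List.cons.injEq,
      and_true] at hrow
    have hc120 : c = 120 ∨ c = 240 := by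
      rcases hrow with ⟨h, -⟩ | ⟨h, -⟩ | ⟨h, -⟩ | ⟨h, -⟩ | ⟨h, -⟩ | ⟨h, -⟩
      · exact Or.inl h
      · exact Or.inl h
      · exfalso
        obtain ⟨s, hs2, hs192⟩ := hs
        exact hnc s hs2 hs192 (T.isConj_of_192 hs2 ht hs192 (hc ▸ h))
      · exact Or.inr h
      · exact Or.inr h
      · exfalso
        rcases T.invol ht with ⟨h', -⟩ | h'
        · rw [← hc, h] at h'; omega
        · rw [← hc, h] at h'; norm_num at h'
    have hsq : ∀ χ ∈ B, ((e χ * e χ : ℕ) : ℤ) ≤ ival χ t ^ 2 := by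
      intro χ hχ
      obtain ⟨hχO, hχ5⟩ := Finset.mem_filter.mp hχ
      have hle' := hB175 ▸ Finset.single_le_sum (f := fun χ => e χ * e χ) (fun _ _ => Nat.zero_le _) hχ
      obtain ⟨j, hj⟩ := involution_value_mod_four T.B.T.noncomm (Char.isCharacter_of_isIrr χ.2) ht2
        (BrauerReynolds.value_one χ)
      rw [hb χ] at hj
      have hj' := Int.cast_injective hj
      have hω := omega_dvd (hb χ)
      have hidx : (Subgroup.centralizer ({t} : Set G)).index = 95040 / c := by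
        have h := (Subgroup.centralizer ({t} : Set G)).card_mul_index
        rw [hn, ← hc] at h
        rw [← h, Nat.mul_div_cancel_left _ (by omega)]
      rw [hidx, hde χ hχO] at hω
      rw [hde χ hχO] at hj'
      have he' : e χ = 0 ∨ e χ = 5 ∨ e χ = 10 := by
        have h5 := Nat.dvd_of_mod_eq_zero (not_ne_iff.mp hχ5)
        obtain ⟨q, hq⟩ := h5
        rw [hq] at hle' ⊢
        have : q ≤ 2 := by nlinarith
        omega
      have h5b : (5 : ℤ) ∣ ival χ t ∧ (e χ = 5 ∨ e χ = 10 → ival χ t ≠ 0) := by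
        rcases he' with h | h | h <;> rw [h] at hω hj' ⊢ <;>
          rcases hc120 with h' | h' <;> rw [h'] at hω <;> norm_num at hω hj' ⊢ <;> omega
      obtain ⟨⟨q, hq⟩, hne⟩ := h5b
      rw [hq] at hj' hne ⊢
      rcases he' with h | h | h <;> rw [h] at hj' ⊢
      · exact le_trans (le_of_eq (by rfl)) (sq_nonneg _)
      · refine le_trans (le_of_eq (by rfl)) (sq_bound_five q fun e0 => hne (Or.inl h) (by rw [e0, mul_zero]))
      · refine le_trans (le_of_eq (by rfl)) (sq_bound_ten q ?_)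
        have h0 := hne (Or.inr h)
        omega
    have hfin := Finset.sum_le_sum hsq
    rw [← Nat.cast_sum, hB175] at hfin
    have hfin' : (175 : ℤ) ≤ ∑ χ ∈ O, ival χ t ^ 2 := le_trans (by exact_mod_cast hfin) hBle
    rcases hrow with ⟨h, a0, a1, a2, a3, ay⟩ | ⟨h, a0, a1, a2, a3, ay⟩ | ⟨h, a0, a1, a2, a3, ay⟩ |
      ⟨h, a0, a1, a2, a3, ay⟩ | ⟨h, a0, a1, a2, a3, ay⟩ | ⟨h, a0, a1, a2, a3, ay⟩ <;>
      rw [a0, a1, a2, a3, ay] at hcb <;> norm_num at hcb <;> omega

/-- `M₁₂` has a degree divisible by `55` and one divisible by `33`. -/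
theorem m12_degrees :
    (∃ χ : IrrCharacter ↥Cfsg.Spor.M12, 55 ∣ charDegree (χ : ↥Cfsg.Spor.M12 → ℂ)) ∧
      ∃ χ : IrrCharacter ↥Cfsg.Spor.M12, 33 ∣ charDegree (χ : ↥Cfsg.Spor.M12 → ℂ) := by
  haveI := CfsgLib.M12Recog.m12_simple
  obtain ⟨e⟩ := nonempty_m12_stab CfsgLib.M12Recog.dodN_mem
  have hn : Nat.card ↥Cfsg.Spor.M12 = 95040 :=
    (Nat.card_congr e.toEquiv).trans (CfsgLib.Golay.natCard_stab_dodecad CfsgLib.M12Recog.dodN_mem)
  haveI : Finite ↥Cfsg.Spor.M12 := Nat.finite_of_card_ne_zero (by rw [hn]; norm_num)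
  letI : Fintype ↥Cfsg.Spor.M12 := Fintype.ofFinite _
  haveI : Fact (Nat.Prime 11) := ⟨by norm_num⟩
  haveI : Fact (Nat.Prime 5) := ⟨by norm_num⟩
  obtain ⟨T⟩ := exists_tbl hn
  obtain ⟨v, hv⟩ := exists_prime_orderOf_dvd_card' (G := ↥Cfsg.Spor.M12) 5 (by rw [hn]; norm_num)
  obtain ⟨t, ht, hnc⟩ := exists_other_involution
  have hC : CfsgLib.M12Recog.iC < 192 := CfsgLib.M12Recog.iC_lt
  have h192 : Nat.card (Subgroup.centralizer ({CfsgLib.M12Recog.f0 CfsgLib.M12Recog.iC} : Set ↥Cfsg.Spor.M12)) = 192 := by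
    rw [CfsgLib.M12Recog.rep0.card_eq]
  have h2 : orderOf (CfsgLib.M12Recog.f0 CfsgLib.M12Recog.iC) = 2 :=
    CfsgLib.M12Recog.Hyp.orderOf_t (show CfsgLib.M12Recog.Hyp CfsgLib.M12Recog.f0 from CfsgLib.M12Recog.rep0)
  exact T.degrees_of_cent hv (card_cent_five hv) ht
    (fun s hs hs' hst => hnc ((T.isConj_of_192 h2 hs h192 hs').trans hst)) ⟨_, h2, h192⟩

end CfsgLib.M12Order
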