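import Cfsg.Agent.Lib.BrauerTuan.Succ

/-!
# A character of degree `< 2p` periodic on the sections of an element of order `p`
-/

set_option autoImplicit false
set_option linter.unusedSectionVars false
set_option linter.style.haveILetI false

namespace CfsgLib.M12Order

open Cfsg Module
open scoped ComplexConjugate CfsgLib.Char
open CfsgLib CfsgLib.BrauerTuan
open scoped _root_.Classical

universe u

variable {G : Type u} [Group G] [Fintype G] {p : ℕ} [Fact p.Prime]

/-- No non-trivial character of degree `< 2p` of a simple group is periodic on the sections of an element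
of order `p` commuting with an element of another prime order. -/
theorem not_periodic_small [IsSimpleGroup G] (hG : ¬ IsMulCommutative G) {χ : IrrCharacter G}
    (hne : χ ≠ Blocks.trivIrr G) {d : ℕ} (hd : charDegree (χ : G → ℂ) = d) (hdp : d < 2 * p) {v y : G}
    (hv : orderOf v = p) (hvy : Commute v y) {r : ℕ} (hr : r.Prime) (hrp : r ≠ p) (hy : orderOf y = r)
    (hval : ∀ i : ℕ, ¬ p ∣ i → ∀ l : ℕ, (χ : G → ℂ) (v ^ i * y ^ l) = (χ : G → ℂ) (v ^ i)) : False := by
  have hp : p.Prime := Fact.out
  obtain ⟨k, ρ, hρ⟩ := Char.isCharacter_of_isIrr χ.2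
  have hk : finrank ℂ (Fin k → ℂ) = d := by
    have h := BrauerReynolds.value_one χ
    rw [hd, ← hρ, Representation.char_one] at h
    exact_mod_cast h
  have hcop : p.Coprime r := (Nat.coprime_primes hp hr).mpr (Ne.symm hrp)
  obtain ⟨b, z, hz, hb⟩ := Char.exists_eigenBasis ρ (v * y)
  rw [hvy.orderOf_mul_eq_mul_orderOf_of_coprime (by rw [hv, hy]; exact hcop), hv, hy] at hz
  obtain ⟨μ, hμ⟩ : ∃ μ, μ = fun i => z i ^ r := ⟨_, rfl⟩
  obtain ⟨ν, hν⟩ : ∃ ν, ν = fun i => z i ^ p := ⟨_, rfl⟩
  have hμp : ∀ i, μ i ^ p = 1 := fun i => by rw [hμ]; simp only; rw [← pow_mul, mul_comm, hz]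
  have hνr : ∀ i, ν i ^ r = 1 := fun i => by rw [hν]; simp only; rw [← pow_mul, hz]
  have hgj : ∀ j l : ℕ, (v * y) ^ (r * j + p * l) = v ^ (r * j) * y ^ (p * l) := fun j l => by
    rw [pow_add, hvy.mul_pow, hvy.mul_pow, pow_mul y r, ← hy, pow_orderOf_eq_one, one_pow, mul_one,
      pow_mul v p, ← hv, pow_orderOf_eq_one, one_pow, one_mul]
  have htr : ∀ j l : ℕ, (χ : G → ℂ) (v ^ (r * j) * y ^ (p * l)) = ∑ i, μ i ^ j * ν i ^ l := fun j l => by
    rw [← hρ, ← hgj]
    show LinearMap.trace ℂ _ (ρ _) = _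
    rw [Char.trace_eq_sum_of_diag b _ _ (fun i => hb i (r * j + p * l))]
    exact Finset.sum_congr rfl fun i _ => by rw [hμ, hν]; simp only; rw [pow_add, pow_mul, pow_mul]
  have hgeom : ∀ (n : ℕ) (w : ℂ), w ^ n = 1 → ∑ j ∈ Finset.range n, w ^ j = if w = 1 then (n : ℂ) else 0 :=
    fun n w hw => by
      split_ifs with h
      · simp [h]
      · rw [geom_sum_eq h, hw, sub_self, zero_div]
  -- the fixed space of `v` carries all the non-trivial eigenvalues of `y`, `p` times less
  have key : ∀ l : ℕ, (p : ℂ) * ∑ i ∈ Finset.univ.filter (fun i => μ i = 1), (ν i ^ l - 1) =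
      ∑ i, (ν i ^ l - 1) := by
    intro l
    have h1 : ∑ j ∈ Finset.range p, ∑ i, μ i ^ j * (ν i ^ l - 1) = ∑ i, (ν i ^ l - 1) := by
      rw [Finset.sum_eq_single 0]
      · simp
      · intro j hj hj0
        rw [Finset.mem_range] at hj
        have hnd : ¬ p ∣ r * j := fun h => (hp.dvd_mul.mp h).elim
          (fun h' => hrp ((Nat.prime_dvd_prime_iff_eq hp hr).mp h').symm)
          (fun h' => hj0 (Nat.eq_zero_of_dvd_of_lt h' hj))
        have e0 : (χ : G → ℂ) (v ^ (r * j)) = ∑ i, μ i ^ j := by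
          have := htr j 0
          simpa using this
        have e1 := hval (r * j) hnd (p * l)
        rw [htr, e0] at e1
        simp only [mul_sub, Finset.sum_sub_distrib, mul_one, e1, sub_self]
      · exact fun h => absurd (Finset.mem_range.mpr hp.pos) h
    rw [← h1, Finset.sum_comm, Finset.mul_sum, Finset.sum_filter]
    refine Finset.sum_congr rfl fun i _ => ?_
    rw [← Finset.sum_mul, hgeom p _ (hμp i), ite_mul, zero_mul]
  -- each non-trivial eigenvalue of `y ^ p` has a multiplicity divisible by `p`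
  have hmult : ∀ L : ℂ, L ^ r = 1 → L ≠ 1 →
      p * (Finset.univ.filter (fun i => μ i = 1 ∧ ν i = L)).card =
        (Finset.univ.filter (fun i => ν i = L)).card := by
    intro L hL hL1
    have hL0 : L ≠ 0 := fun h => by rw [h, zero_pow hr.ne_zero] at hL; exact zero_ne_one hL
    have hinv : (L⁻¹) ^ r = 1 := by rw [inv_pow, hL, inv_one]
    have hone : ∀ i, ∑ l ∈ Finset.range r, (L⁻¹) ^ l * (ν i ^ l - 1) =
        if ν i = L then (r : ℂ) else 0 := fun i => by
      have e : (L⁻¹ * ν i = 1) ↔ ν i = L := by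
        rw [inv_mul_eq_one₀ hL0]; exact eq_comm
      simp only [mul_sub, mul_one, Finset.sum_sub_distrib, ← mul_pow]
      rw [hgeom r _ (by rw [mul_pow, hinv, hνr, one_mul]), hgeom r _ hinv,
        if_neg (show L⁻¹ ≠ 1 by rw [ne_eq, inv_eq_one]; exact hL1), sub_zero]
      exact if_congr e rfl rfl
    have h := congrArg (fun f : ℕ → ℂ => ∑ l ∈ Finset.range r, (L⁻¹) ^ l * f l) (funext key)
    simp only [Finset.mul_sum] at h
    rw [Finset.sum_comm, Finset.sum_comm (t := (Finset.univ : Finset (Fin _)))] at h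
    simp only [mul_left_comm _ (p : ℂ), ← Finset.mul_sum, hone, ← Finset.sum_filter, Finset.sum_const,
      nsmul_eq_mul, Finset.filter_filter] at h
    have hr0 : (r : ℂ) ≠ 0 := Nat.cast_ne_zero.mpr hr.ne_zero
    have h' : ((p * (Finset.univ.filter (fun i => μ i = 1 ∧ ν i = L)).card : ℕ) : ℂ) =
        ((Finset.univ.filter (fun i => ν i = L)).card : ℂ) := by
      push_cast
      refine mul_right_cancel₀ hr0 ?_
      rw [mul_assoc]
      exact h
    exact_mod_cast h'
  -- the determinant
  have hdet : LinearMap.det (ρ (y ^ p)) = 1 := by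
    have hD1 := SmallOrder.map_eq_one_of_comm hG (LinearMap.det.comp ρ).toHomUnits (y ^ p)
    exact congrArg Units.val hD1
  have hdiag : ∀ i, ρ (y ^ p) (b i) = ν i • b i := fun i => by
    have h := hb i (r * 0 + p * 1)
    rw [hgj, mul_zero, pow_zero, one_mul, mul_one, zero_add] at h
    rw [hν]
    exact h
  rw [← LinearMap.det_toMatrix b, show LinearMap.toMatrix b b (ρ (y ^ p)) = Matrix.diagonal ν from ?_,
    Matrix.det_diagonal] at hdet
  swap
  · ext i j
    rw [LinearMap.toMatrix_apply, hdiag, map_smul, Basis.repr_self, Finsupp.smul_apply, Matrix.diagonal_apply]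
    by_cases h : i = j
    · subst h; simp
    · simp [h, Ne.symm h]
  have hall : ∀ i, ν i = 1 := by
    by_contra hn
    push Not at hn
    obtain ⟨i₀, hi₀⟩ := hn
    have hsize : ∀ L : ℂ, L ≠ 1 → (∃ i, ν i = L) →
        p ≤ (Finset.univ.filter (fun i => ν i = L)).card := by
      rintro L hL1 ⟨i, rfl⟩
      have hm := hmult _ (hνr i) hL1
      refine Nat.le_of_dvd (Finset.card_pos.mpr ⟨i, by simp⟩) ⟨_, hm.symm⟩
    have hother : ∀ i, ν i ≠ 1 → ν i = ν i₀ := by
      intro i hi
      by_contra hne'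
      have h1 := hsize _ hi₀ ⟨i₀, rfl⟩
      have h2 := hsize _ hi ⟨i, rfl⟩
      have hdis : Disjoint (Finset.univ.filter (fun j => ν j = ν i₀))
          (Finset.univ.filter (fun j => ν j = ν i)) :=
        Finset.disjoint_filter.mpr fun j _ e1 e2 => hne' (e2.symm.trans e1)
      have h3 := Finset.card_le_univ ((Finset.univ.filter (fun j => ν j = ν i₀)) ∪
        (Finset.univ.filter (fun j => ν j = ν i)))
      rw [Finset.card_union_of_disjoint hdis, Fintype.card_fin] at h3
      have := h3.trans_eq hk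
      omega
    set S := Finset.univ.filter (fun j => ν j = ν i₀) with hS
    have hSd : S.card ≤ d := by
      have h := Finset.card_le_univ S
      rw [Fintype.card_fin] at h
      exact h.trans_eq hk
    obtain ⟨a, ha⟩ : ∃ a, S.card = p * a := ⟨_, (hmult _ (hνr i₀) hi₀).symm⟩
    have ha1 : a = 1 := by
      have h1 : p ≤ S.card := hsize _ hi₀ ⟨i₀, rfl⟩
      have h2 : p * a < p * 2 := by rw [← ha]; omega
      have h3 := Nat.lt_of_mul_lt_mul_left h2
      rcases Nat.eq_zero_or_pos a with e | e
      · rw [e, mul_zero] at ha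
        have := hp.pos
        omega
      · omega
    rw [← Finset.prod_subset (Finset.subset_univ S) (fun j _ hj => by
        by_contra e
        exact hj (Finset.mem_filter.mpr ⟨Finset.mem_univ j, hother j e⟩)),
      Finset.prod_congr rfl (g := fun _ => ν i₀) (fun j hj => (Finset.mem_filter.mp hj).2),
      Finset.prod_const, ha, ha1, mul_one] at hdet
    have := pow_gcd_eq_one.mpr ⟨hdet, hνr i₀⟩
    rw [hcop, pow_one] at this
    exact hi₀ this
  have hy1 : y ^ p = 1 := BrauerReynolds.faithful_of_simple hne (by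
    have h := htr 0 1
    simp only [mul_zero, pow_zero, one_mul, mul_one] at h
    rw [h, BrauerReynolds.value_one, hd]
    simp [hall, hk])
  rw [← orderOf_dvd_iff_pow_eq_one, hy] at hy1
  exact hrp ((Nat.prime_dvd_prime_iff_eq hr hp).mp hy1)

end CfsgLib.M12Order
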