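import Cfsg.Agent.Lib.BrauerTuan.Orders
import Cfsg.Agent.Lib.M12Order.Periodic
import Cfsg.Agent.Lib.UThreeUnique.Block
import Cfsg.Agent.Lib.BrauerTuan.SeventyNineTwentyInvolution
import Cfsg.Agent.Lib.Char.OddDegreeSum

/-!
# Signed degrees of a principal block as entries of the lists of the checker
-/

set_option autoImplicit false
set_option linter.unusedSectionVars false
set_option linter.style.haveILetI false

namespace CfsgLib.M12Order

open Cfsg
open scoped ComplexConjugate CfsgLib.Char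
open CfsgLib CfsgLib.BrauerTuan
open scoped _root_.Classical

universe u

variable {G : Type u} [Group G] [Fintype G] {p : ℕ} [Fact p.Prime] [IsSimpleGroup G]
  {n B k : ℕ} {qs : List ℕ} (T : OrderCtx G n p qs B k)

theorem not_dvd_order_one : ¬ p ∣ orderOf (1 : G) :=
  orderOf_one (G := G) ▸ (Fact.out : p.Prime).not_dvd_one

include T in
theorem exists_ne_one_P : ∃ v, v ∈ (T.P : Subgroup G) ∧ v ≠ 1 := by
  rcases (T.P : Subgroup G).bot_or_exists_ne_one with h | h
  · have := T.card_P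
    rw [h, Subgroup.card_bot] at this
    exact absurd this (Fact.out : p.Prime).one_lt.ne
  · exact h

/-- A character constant `σ` on the sections gives an entry of the list of the checker. -/
theorem entry_mem {χ : IrrCharacter G} (hne : χ ≠ Blocks.trivIrr G)
    (hd : charDegree (χ : G → ℂ) ∣ T.D.e * (1 + T.D.n * p)) {σ : ℤ} (hσ : σ = 1 ∨ σ = -1)
    (hmod : (p : ℤ) ∣ (charDegree (χ : G → ℂ) : ℤ) - σ)
    (hval : ∀ v ∈ (T.P : Subgroup G), v ≠ 1 → ∀ y ∈ Subgroup.centralizer ((T.P : Subgroup G) : Set G),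
      ¬ p ∣ orderOf y → (χ : G → ℂ) (v * y) = σ) :
    σ * (charDegree (χ : G → ℂ) : ℤ) ∈ xList n p k (T.D.e * (1 + T.D.n * p)) qs B := by
  obtain ⟨hok, hle⟩ := T.degOK_of hne hd fun v hv hv1 y hy hyr => by
    rw [hval v hv hv1 y hy hyr]
    have h := hval v hv hv1 1 (one_mem _) not_dvd_order_one
    rw [mul_one] at h
    rw [h]
  simp only [xList, List.mem_flatMap, List.mem_range, List.mem_filterMap]
  refine ⟨_, Nat.lt_add_one_iff.mpr hle, σ, by rcases hσ with h | h <;> simp [h], ?_⟩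
  rw [if_pos]
  simp only [Bool.and_eq_true, Bool.or_eq_true, decide_eq_true_eq]
  refine ⟨⟨⟨hok, Int.emod_eq_zero_of_dvd hmod⟩, ?_⟩, ?_⟩
  swap
  · by_cases hk1 : k = 1
    · exact Or.inl (Or.inl hk1)
    by_cases hs1 : σ = 1
    · subst hs1
      exact Or.inr (T.degree_ne_succ hne hk1 fun v hv hv1 y hy hyr => by
        rw [hval v hv hv1 y hy hyr, Int.cast_one])
    · exact Or.inl (Or.inr hs1)
  rcases Nat.mod_two_eq_zero_or_one k with hk2 | hk2
  · refine Or.inr (T.invOK_of hne hk2 ?_ hσ hmod hval)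
    simp only [degOK, Bool.and_eq_true, Bool.or_eq_true, decide_eq_true_eq] at hok
    rcases hok.1.2 with h | h
    · omega
    · exact h
  · exact Or.inl hk2

/-- At least two exceptional characters: an exceptional character and the sum relation. -/
theorem exists_exceptional (ht : 2 ≤ T.D.t) :
    ∃ ψ : IrrCharacter G, ψ ∈ T.D.Y ∧ ψ ≠ Blocks.trivIrr G ∧
      T.D.ε * (charDegree (ψ : G → ℂ) : ℤ) ∈ yList n p k (T.D.e * (1 + T.D.n * p)) T.D.e qs B ∧
      ∃ s ∈ sumsOf (xList n p k (T.D.e * (1 + T.D.n * p)) qs B) (T.D.e - 1),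
        T.D.ε * (charDegree (ψ : G → ℂ) : ℤ) = 1 + s := by
  have hone : ¬ p ∣ orderOf (1 : G) := not_dvd_order_one
  obtain ⟨v, hv, hv1⟩ := exists_ne_one_P T
  have hT : Blocks.trivIrr G ∈ T.D.X := by
    rcases Finset.mem_union.mp T.D.triv with h | h
    · exact h
    exfalso
    obtain ⟨ψ', hψ', hne⟩ := Finset.exists_mem_ne (show 1 < T.D.Y.card by rw [T.D.card_Y]; omega)
      (Blocks.trivIrr G)
    have h1 := T.D.degY_eq ψ' hψ' _ h
    rw [BrauerReynolds.degree_triv] at h1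
    exact (BrauerReynolds.one_lt_degree_of_simple T.noncomm hne).ne' h1
  have hδT : T.D.δ (Blocks.trivIrr G) = 1 := by
    have h := T.D.valX _ hT v hv hv1 1 (one_mem _) hone
    have h' : ((1 : ℤ) : ℂ) = (T.D.δ (Blocks.trivIrr G) : ℂ) := by rw [← h]; simp [Blocks.trivIrr]
    exact (Int.cast_injective h').symm
  obtain ⟨ψ₀, hψ₀⟩ : T.D.Y.Nonempty := Finset.card_pos.mp (by rw [T.D.card_Y]; omega)
  have hrel : T.D.ε * (charDegree (ψ₀ : G → ℂ) : ℤ) =
      ∑ χ ∈ T.D.X, T.D.δ χ * (charDegree (χ : G → ℂ) : ℤ) := by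
    have h := T.D.rel ψ₀ hψ₀ 1 hone
    simp only [BrauerReynolds.value_one] at h
    exact_mod_cast h
  rw [← Finset.add_sum_erase _ _ hT, hδT, BrauerReynolds.degree_triv, Nat.cast_one, mul_one] at hrel
  have hne0 : ψ₀ ≠ Blocks.trivIrr G := fun h => Finset.disjoint_left.mp T.D.disj hT (h ▸ hψ₀)
  have hmem := mem_sumsOf (T.D.X.erase (Blocks.trivIrr G))
    (f := fun χ => T.D.δ χ * (charDegree (χ : G → ℂ) : ℤ)) fun χ hχ => by
    obtain ⟨hne, hχ'⟩ := Finset.mem_erase.mp hχ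
    exact entry_mem T hne (T.D.dvdX χ hχ') (T.D.hδ χ hχ') (Int.modEq_iff_dvd.mp (T.D.degX χ hχ').symm)
      (T.D.valX χ hχ')
  rw [Finset.card_erase_of_mem hT, T.D.card_X] at hmem
  refine ⟨ψ₀, hψ₀, hne0, ?_, _, hmem, hrel⟩
  obtain ⟨hok, hle⟩ := T.degOK_of hne0 (T.D.dvdY ψ₀ hψ₀) (T.D.valY ψ₀ hψ₀)
  simp only [yList, List.mem_flatMap, List.mem_range, List.mem_filterMap]
  refine ⟨_, Nat.lt_add_one_iff.mpr hle, T.D.ε, by rcases T.D.hε with h | h <;> simp [h], ?_⟩
  rw [if_pos]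
  simp only [Bool.and_eq_true, decide_eq_true_eq]
  exact ⟨hok, Int.emod_eq_zero_of_dvd (Int.modEq_iff_dvd.mp (T.D.degY ψ₀ hψ₀).symm)⟩

/-- One exceptional character: all of the block, with signs. -/
theorem exists_block_one (ht : T.D.t = 1) :
    ∃ (E : Finset (IrrCharacter G)) (σ : IrrCharacter G → ℤ), E.card = T.D.e ∧
      Blocks.trivIrr G ∉ E ∧ insert (Blocks.trivIrr G) E = T.D.X ∪ T.D.Y ∧
      σ (Blocks.trivIrr G) = 1 ∧
      (∀ χ ∈ insert (Blocks.trivIrr G) E, (σ χ = 1 ∨ σ χ = -1) ∧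
        ∀ v ∈ (T.P : Subgroup G), v ≠ 1 → ∀ y ∈ Subgroup.centralizer ((T.P : Subgroup G) : Set G),
          ¬ p ∣ orderOf y → (χ : G → ℂ) (v * y) = σ χ) ∧
      (∀ χ ∈ E, σ χ * (charDegree (χ : G → ℂ) : ℤ) ∈ xList n p k (T.D.e * (1 + T.D.n * p)) qs B) ∧
      ∀ g, ¬ p ∣ orderOf g → 1 + ∑ χ ∈ E, (σ χ : ℂ) * (χ : G → ℂ) g = 0 := by
  have hone : ¬ p ∣ orderOf (1 : G) := not_dvd_order_one
  obtain ⟨v, hv, hv1⟩ := exists_ne_one_P T
  obtain ⟨ψ, hψ⟩ := Finset.card_eq_one.mp (T.D.card_Y.trans ht)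
  have hψY : ψ ∈ T.D.Y := hψ ▸ Finset.mem_singleton_self _
  obtain ⟨σ, hσ⟩ : ∃ σ : IrrCharacter G → ℤ, σ = fun χ => if χ ∈ T.D.X then T.D.δ χ else -T.D.ε :=
    ⟨_, rfl⟩
  have hσ1 : ∀ χ ∈ T.D.X ∪ T.D.Y, σ χ = 1 ∨ σ χ = -1 := fun χ hχ => by
    simp only [hσ]
    split_ifs with h
    · exact T.D.hδ χ h
    · rcases T.D.hε with h | h <;> simp [h]
  have hval : ∀ χ ∈ T.D.X ∪ T.D.Y, ∀ u ∈ (T.P : Subgroup G), u ≠ 1 →
      ∀ y ∈ Subgroup.centralizer ((T.P : Subgroup G) : Set G), ¬ p ∣ orderOf y →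
      (χ : G → ℂ) (u * y) = σ χ := by
    intro χ hχ u hu hu1 y hy hyr
    rcases Finset.mem_union.mp hχ with h | h
    · simp only [hσ, if_pos h]; exact T.D.valX χ h u hu hu1 y hy hyr
    · simp only [hσ, if_neg fun h' => Finset.disjoint_left.mp T.D.disj h' h]
      rw [T.D.valY χ h u hu hu1 y hy hyr]
      rw [hψ, Finset.mem_singleton] at h
      have := T.D.sumY u hu hu1
      rw [hψ, Finset.sum_singleton, ← h] at this
      rw [this]; push_cast; rfl
  have hT : σ (Blocks.trivIrr G) = 1 := by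
    have h := hval _ T.D.triv v hv hv1 1 (one_mem _) hone
    have h' : ((1 : ℤ) : ℂ) = (σ (Blocks.trivIrr G) : ℂ) := by rw [← h]; simp [Blocks.trivIrr]
    exact (Int.cast_injective h').symm
  have hins : insert (Blocks.trivIrr G) ((T.D.X ∪ T.D.Y).erase (Blocks.trivIrr G)) = T.D.X ∪ T.D.Y :=
    Finset.insert_erase T.D.triv
  refine ⟨(T.D.X ∪ T.D.Y).erase (Blocks.trivIrr G), σ, ?_, Finset.notMem_erase _ _, hins, hT,
    fun χ hχ => ⟨hσ1 χ (hins ▸ hχ), hval χ (hins ▸ hχ)⟩, fun χ hχ => ?_, fun g hg => ?_⟩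
  · rw [Finset.card_erase_of_mem T.D.triv, Finset.card_union_of_disjoint T.D.disj, T.D.card_X,
      T.D.card_Y, ht, Nat.add_sub_cancel]
  · obtain ⟨hne, hχ'⟩ := Finset.mem_erase.mp hχ
    refine entry_mem T hne ?_ (hσ1 χ hχ') ?_ (hval χ hχ')
    · rcases Finset.mem_union.mp hχ' with h | h
      · exact T.D.dvdX χ h
      · exact T.D.dvdY χ h
    · rcases Finset.mem_union.mp hχ' with h | h
      · simp only [hσ, if_pos h]; exact Int.modEq_iff_dvd.mp (T.D.degX χ h).symm
      · simp only [hσ, if_neg fun h' => Finset.disjoint_left.mp T.D.disj h' h]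
        refine Int.modEq_iff_dvd.mp ((T.D.degY χ h).trans ?_).symm
        rw [Int.modEq_iff_dvd]
        have het := T.D.het
        rw [ht, mul_one] at het
        have : (T.D.e : ℤ) + 1 = p := by exact_mod_cast het
        exact ⟨-T.D.ε, by rw [← this]; ring⟩
  · have h0 : ∑ χ ∈ T.D.X ∪ T.D.Y, (σ χ : ℂ) * (χ : G → ℂ) g = 0 := by
      rw [Finset.sum_union T.D.disj, hψ, Finset.sum_singleton,
        Finset.sum_congr rfl (g := fun χ => (T.D.δ χ : ℂ) * (χ : G → ℂ) g) fun χ h => by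
          simp only [hσ, if_pos h], ← T.D.rel ψ hψY g hg]
      simp only [hσ, if_neg fun h' => Finset.disjoint_left.mp T.D.disj h' hψY]
      push_cast
      ring
    rw [← Finset.add_sum_erase _ _ T.D.triv, hT] at h0
    simpa [Blocks.trivIrr] using h0

/-- A self-centralising Sylow subgroup and an even `|N : C|`: no character of degree `p - 1` is `-1` on
the sections, when `p ≡ 3 mod 4`. -/
theorem false_of_ten (T : OrderCtx G n p qs B 1) (h4 : p % 4 = 3) (he : 2 ∣ T.D.e) {χ : IrrCharacter G}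
    (hd : charDegree (χ : G → ℂ) + 1 = p)
    (hval : ∀ v ∈ (T.P : Subgroup G), v ≠ 1 → (χ : G → ℂ) v = -1) : False := by
  haveI : Fact (Nat.Prime 2) := ⟨Nat.prime_two⟩
  have hp : p.Prime := Fact.out
  have hC := UThreeUnique.cent_eq T
  obtain ⟨N, hN⟩ : ∃ N, N = Subgroup.normalizer ((T.P : Subgroup G) : Set G) := ⟨_, rfl⟩
  have hcardN : Nat.card N = T.D.e * p := by
    have h := N.card_mul_index
    have hi0 : (Subgroup.normalizer ((T.P : Subgroup G) : Set G)).index = 1 + T.D.n * p :=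
      (Sylow.card_eq_index_normalizer T.P).symm.trans T.D.card_sylow
    rw [hN, hi0, T.D.card_G, T.card_C, mul_one] at h
    rw [hN]
    refine Nat.eq_of_mul_eq_mul_right (show 0 < 1 + T.D.n * p by omega) ?_
    rw [h]; ring
  obtain ⟨t', ht'⟩ := exists_prime_orderOf_dvd_card' (G := N) 2 (by rw [hcardN]; exact he.mul_right p)
  have hto : orderOf (t' : G) = 2 := by rw [Subgroup.orderOf_coe]; exact ht'
  obtain ⟨t, htdef⟩ : ∃ t, t = (t' : G) := ⟨_, rfl⟩
  rw [← htdef] at hto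
  have htN : t ∈ Subgroup.normalizer ((T.P : Subgroup G) : Set G) := by rw [htdef, ← hN]; exact t'.2
  have htt : t * t = 1 := by rw [← pow_two, ← hto, pow_orderOf_eq_one]
  have hinv : t⁻¹ = t := inv_eq_of_mul_eq_one_right htt
  haveI : IsCyclic (T.P : Subgroup G) := isCyclic_of_prime_card T.card_P
  have hcomm : ∀ a b : G, a ∈ (T.P : Subgroup G) → b ∈ (T.P : Subgroup G) → a * b = b * a :=
    fun a b ha hb => congrArg Subtype.val
      ((IsCyclic.commGroup (α := (T.P : Subgroup G))).mul_comm ⟨a, ha⟩ ⟨b, hb⟩)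
  -- `t` inverts `P`
  have hinvert : ∀ w : (T.P : Subgroup G), ((w : G) * t) * ((w : G) * t) = 1 := by
    intro w
    have hc : t * w * t⁻¹ ∈ (T.P : Subgroup G) := (Subgroup.mem_normalizer_iff.mp htN w).mp w.2
    obtain ⟨z, hz⟩ : ∃ z, z = (w : G) * (t * w * t⁻¹) := ⟨_, rfl⟩
    have hzP : z ∈ (T.P : Subgroup G) := hz ▸ mul_mem w.2 hc
    have hfix : t * z = z * t := by
      have h1 : t * z * t⁻¹ = (t * w * t⁻¹) * w := by
        rw [hz, hinv]
        simp only [mul_assoc, htt, mul_one]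
      rw [hcomm _ _ hc w.2, ← hz] at h1
      exact mul_inv_eq_iff_eq_mul.mp h1
    have hz1 : z = 1 := by
      by_contra hz1
      have hzp : Subgroup.zpowers z = (T.P : Subgroup G) := by
        refine Subgroup.eq_of_le_of_card_ge (Subgroup.zpowers_le.mpr hzP) ?_
        rw [Nat.card_zpowers, T.card_P]
        have h := orderOf_dvd_natCard (⟨z, hzP⟩ : (T.P : Subgroup G))
        rw [T.card_P, Subgroup.orderOf_mk] at h
        exact (((Nat.dvd_prime hp).mp h).resolve_left fun h' => hz1 (orderOf_eq_one_iff.mp h')).ge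
      have htC : t ∈ Subgroup.centralizer ((T.P : Subgroup G) : Set G) := by
        refine Subgroup.mem_centralizer_iff.mpr fun q hq => ?_
        rw [← hzp] at hq
        obtain ⟨i, rfl⟩ := Subgroup.mem_zpowers_iff.mp hq
        exact ((show Commute t z from hfix).zpow_right i).symm.eq
      rw [hC] at htC
      have h := orderOf_dvd_natCard (⟨t, htC⟩ : (T.P : Subgroup G))
      rw [T.card_P, Subgroup.orderOf_mk, hto] at h
      have := (Nat.prime_dvd_prime_iff_eq Nat.prime_two hp).mp h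
      omega
    rw [hz, hinv] at hz1
    rw [← hz1]
    simp only [mul_assoc]
  have hφ := Char.isCharacter_of_isIrr χ.2
  obtain ⟨a, ha, hab⟩ := exists_fixed_trace_sum hφ (T.P : Subgroup G) T.card_P htt htN (K := 0) (by
    rw [← Finset.add_sum_erase _ _ (Finset.mem_univ (1 : (T.P : Subgroup G))),
      Finset.sum_congr rfl (g := fun _ => (-1 : ℂ)) (fun (w : (T.P : Subgroup G)) hw =>
        hval w w.2 fun e => Finset.ne_of_mem_erase hw (Subtype.ext e)),
      Finset.sum_const, Finset.card_erase_of_mem (Finset.mem_univ _), Finset.card_univ,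
      ← Nat.card_eq_fintype_card, T.card_P, Subgroup.coe_one, BrauerReynolds.value_one,
      show p - 1 = charDegree (χ : G → ℂ) by omega]
    simp)
  rw [show a = 0 by simpa using hab, Int.cast_zero, mul_zero] at ha
  have hj : ∀ w : (T.P : Subgroup G), ∃ j : ℤ,
      (χ : G → ℂ) ((w : G) * t) = (((charDegree (χ : G → ℂ) : ℤ) - 4 * j : ℤ) : ℂ) := fun w =>
    involution_value_mod_four T.noncomm hφ (hinvert w) (BrauerReynolds.value_one χ)
  choose j hj using hj
  rw [Finset.sum_congr rfl fun w _ => hj w, ← Int.cast_sum, Int.cast_eq_zero, Finset.sum_sub_distrib,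
    Finset.sum_const, Finset.card_univ, ← Nat.card_eq_fintype_card, T.card_P, ← Finset.mul_sum,
    nsmul_eq_mul] at ha
  generalize ∑ w : (T.P : Subgroup G), j w = J at ha
  obtain ⟨q, hq⟩ : ∃ q, p = 4 * q + 3 := ⟨p / 4, by omega⟩
  have hdq : charDegree (χ : G → ℂ) = 4 * q + 2 := by omega
  rw [hdq] at ha
  nth_rw 1 [hq] at ha
  push_cast at ha
  have : ((4 * (q : ℤ) + 3) * (4 * q + 2)) % 4 = 2 := by
    rw [show (4 * (q : ℤ) + 3) * (4 * q + 2) = 2 + 4 * (4 * q * q + 5 * q + 1) by ring,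
      Int.add_mul_emod_self_left]
    norm_num
  omega

/-- No exceptional character has degree `< 2p` if `C(P) ≠ P`. -/
theorem false_of_small_exceptional (hk : k ≠ 1) (hkp : ¬ p ∣ k) {ψ : IrrCharacter G} (hψ : ψ ∈ T.D.Y)
    (hne : ψ ≠ Blocks.trivIrr G) (hd : charDegree (ψ : G → ℂ) < 2 * p) : False := by
  have hp : p.Prime := Fact.out
  obtain ⟨r, hr, hrk⟩ := Nat.exists_prime_and_dvd hk
  haveI := Fact.mk hr
  obtain ⟨y, hy⟩ := exists_prime_orderOf_dvd_card' (G := Subgroup.centralizer ((T.P : Subgroup G) : Set G)) r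
    (by rw [T.card_C]; exact hrk.mul_left p)
  have hyo : orderOf (y : G) = r := by rw [Subgroup.orderOf_coe]; exact hy
  have hrp : r ≠ p := fun h => hkp (h ▸ hrk)
  obtain ⟨v, hv⟩ := exists_prime_orderOf_dvd_card' (G := (T.P : Subgroup G)) p (by rw [T.card_P])
  have hvo : orderOf (v : G) = p := by rw [Subgroup.orderOf_coe]; exact hv
  refine not_periodic_small T.noncomm hne rfl hd hvo
    (Subgroup.mem_centralizer_iff.mp y.2 v v.2) hr hrp hyo fun i hi l => ?_
  refine T.D.valY ψ hψ _ (Subgroup.pow_mem _ v.2 i) (fun h => hi ?_) _ (Subgroup.pow_mem _ y.2 l) fun h => ?_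
  · rw [← hvo]
    exact orderOf_dvd_iff_pow_eq_one.mpr h
  · have h' := h.trans (orderOf_pow_dvd l)
    rw [hyo] at h'
    exact hrp ((Nat.prime_dvd_prime_iff_eq hp hr).mp h').symm

end CfsgLib.M12Order
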