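import Cfsg.Agent.Lib.M12Order.TwoCentral

/-!
# The orders of the simple groups with an element of order 11 dividing 95040
-/

set_option autoImplicit false
set_option linter.unusedSectionVars false
set_option linter.style.haveILetI false

namespace CfsgLib.M12Order

open Cfsg
open scoped ComplexConjugate CfsgLib.Char
open CfsgLib CfsgLib.BrauerTuan

/-- The primes dividing the order exactly once. -/
def qsOf (n : ℕ) : List ℕ := if n % 5 = 0 then [5, 11] else [11]

/-- The blocks left by the checker. -/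
def excOf (n : ℕ) : List (ℕ × ℕ × ℕ) :=
  if n = 660 then [(12, 5, 1)]
  else if n = 990 then [(45, 2, 1)]
  else if n = 7920 then [(144, 5, 1)]
  else if n = 11880 then [(540, 2, 1)]
  else if n = 15840 then [(144, 5, 2), (144, 10, 1)]
  else if n = 23760 then [(144, 5, 3)]
  else if n = 31680 then [(144, 5, 4), (144, 10, 2)]
  else if n = 47520 then [(144, 5, 6), (144, 10, 3)]
  else if n = 95040 then [(144, 5, 12), (144, 10, 6), (1728, 5, 1)]
  else []

theorem key_orders11 : ∀ a < 7, ∀ b < 4, ∀ c < 2,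
    orderBad (2 ^ a * 3 ^ b * 5 ^ c * 11) 11 (qsOf (2 ^ a * 3 ^ b * 5 ^ c * 11)) 308
      (excOf (2 ^ a * 3 ^ b * 5 ^ c * 11)) = true := by decide +kernel

theorem key_two : ∀ a ∈ xList 11880 11 1 1080 [5, 11] 308,
    ∀ b ∈ yList 11880 11 1 1080 2 [5, 11] 308, 1 + a = b → a = -10 := by decide +kernel

theorem key_five : ∀ q ∈ ([(15840, 2), (23760, 3), (31680, 4), (47520, 6)] : List (ℕ × ℕ)),
    ((sumsOf (xList q.1 11 q.2 720 [5, 11] 308) 4).all fun s =>
      !(yList q.1 11 q.2 720 5 [5, 11] 308).contains (1 + s) || decide (1 + s = 16)) = true := by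
  decide +kernel

theorem key_x15840 : ∀ a ∈ xList 15840 11 1 1440 [5, 11] 308,
    a = -10 ∨ a = 12 ∨ a = -32 ∨ a = 45 ∨ a = -120 := by decide +kernel

theorem key_x31680 : ∀ a ∈ xList 31680 11 2 1440 [5, 11] 308,
    a = -32 ∨ a = 45 ∨ a = -120 ∨ a = 144 := by decide +kernel

theorem key_x47520 : ∀ a ∈ xList 47520 11 3 1440 [5, 11] 308,
    a = -32 ∨ a = 45 ∨ a = -120 ∨ a = 144 := by decide +kernel

set_option synthInstance.maxSize 4000 in
set_option synthInstance.maxHeartbeats 200000 in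
theorem key_counts : ∀ b < 11, ∀ c < 11, ∀ d < 11, b + c + d ≤ 10 →
    ((-32 : ℤ) * ((10 - b - c - d : ℕ) : ℤ) + 45 * (b : ℤ) + -120 * (c : ℤ) + 144 * (d : ℤ) = -1 →
      1024 * ((10 - b - c - d : ℕ) : ℤ) + 2025 * (b : ℤ) + 14400 * (c : ℤ) + 20736 * (d : ℤ) + 1 ≤ 47520 →
      31681 ≤ 1024 * ((10 - b - c - d : ℕ) : ℤ) + 2025 * (b : ℤ) + 14400 * (c : ℤ) + 20736 * (d : ℤ) + 1 ∧
        10 - b - c - d = 5 ∧ b = 3 ∧ c = 1 ∧ d = 1) ∧
    ((-32 : ℤ) * ((10 - b - c - d : ℕ) : ℤ) + 12 * (b : ℤ) + 45 * (c : ℤ) + -120 * (d : ℤ) = -1 →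
      1024 * ((10 - b - c - d : ℕ) : ℤ) + 144 * (b : ℤ) + 2025 * (c : ℤ) + 14400 * (d : ℤ) + 1 ≤ 15840 →
      10 - b - c - d = 5 ∧ b = 2 ∧ c = 3 ∧ d = 0) := by decide +kernel

/-- A sum over values among four. -/
theorem exists_counts_four {ι : Type*} [DecidableEq ι] (s : Finset ι) (x : ι → ℤ) (a b c d : ℤ) (hab : a ≠ b)
    (hac : a ≠ c) (had : a ≠ d) (hbc : b ≠ c) (hbd : b ≠ d) (hcd : c ≠ d)
    (h : ∀ i ∈ s, x i = a ∨ x i = b ∨ x i = c ∨ x i = d) :
    ∃ na nb nc nd : ℕ,
      (s.filter fun i => x i = a).card = na ∧ (s.filter fun i => x i = b).card = nb ∧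
      (s.filter fun i => x i = c).card = nc ∧ (s.filter fun i => x i = d).card = nd ∧
      s.card = na + nb + nc + nd ∧
      ∀ f : ℤ → ℤ, ∑ i ∈ s, f (x i) = na * f a + nb * f b + nc * f c + nd * f d := by
  refine ⟨_, _, _, _, rfl, rfl, rfl, rfl, ?_, fun f => ?_⟩
  · rw [Finset.card_eq_sum_card_fiberwise (f := x) (t := {a, b, c, d}) fun i hi => by
      simpa [Finset.mem_coe] using h i hi]
    simp [hab, hac, had, hbc, hbd, hcd]
    ring
  · rw [← Finset.sum_fiberwise_of_maps_to (g := x) (t := {a, b, c, d}) fun i hi => by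
      simpa using h i hi]
    rw [Finset.sum_congr rfl (g := fun v => ((s.filter fun i => x i = v).card : ℤ) * f v) fun v _ => by
      rw [Finset.sum_congr rfl (g := fun _ => f v) fun i hi => by rw [(Finset.mem_filter.mp hi).2],
        Finset.sum_const, nsmul_eq_mul]]
    simp [hab, hac, had, hbc, hbd, hcd]
    ring

open scoped _root_.Classical

universe u

variable {G : Type u} [Group G] [Fintype G] [Fact (Nat.Prime 11)] [IsSimpleGroup G]

/-- A sum of squares of degrees in the group. -/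
theorem sum_degree_sq_lt {E : Finset (IrrCharacter G)} (hE : Blocks.trivIrr G ∉ E) :
    1 + ∑ χ ∈ E, (charDegree (χ : G → ℂ) : ℤ) ^ 2 ≤ (Nat.card G : ℤ) := by
  have h := Char.sum_sq_degree (G := G)
  simp only [BrauerReynolds.value_one, ← Nat.cast_pow, ← Nat.cast_sum, Nat.cast_inj] at h
  have h2 := Finset.sum_le_sum_of_subset (f := fun ξ : IrrCharacter G => charDegree (ξ : G → ℂ) ^ 2)
    (Finset.subset_univ (insert (Blocks.trivIrr G) E))
  rw [h, Finset.sum_insert hE, BrauerReynolds.degree_triv, one_pow] at h2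
  exact_mod_cast h2

/-- Order 11880. -/
theorem false_11880 (T : OrderCtx G 11880 11 [5, 11] 308 1) (he : T.D.e = 2)
    (hc : 1 + T.D.n * 11 = 540) : False := by
  have ht : T.D.t = 5 := by have := T.D.het; rw [he] at this; omega
  obtain ⟨ψ, hψ, -, hy, -⟩ := exists_exceptional T (by omega)
  obtain ⟨v, hv, hv1⟩ := exists_ne_one_P T
  have hT : Blocks.trivIrr G ∈ T.D.X := by
    rcases Finset.mem_union.mp T.D.triv with h | h
    · exact h
    exfalso
    obtain ⟨ψ', hψ', hne⟩ := Finset.exists_mem_ne (show 1 < T.D.Y.card by rw [T.D.card_Y]; omega)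
      (Blocks.trivIrr G)
    have h1 := T.D.degY_eq ψ' hψ' _ h
    rw [BrauerReynolds.degree_triv] at h1
    exact (BrauerReynolds.one_lt_degree_of_simple T.noncomm hne).ne' h1
  have hone : ¬ 11 ∣ orderOf (1 : G) := not_dvd_order_one
  have hδT : T.D.δ (Blocks.trivIrr G) = 1 := by
    have h := T.D.valX _ hT v hv hv1 1 (one_mem _) hone
    have h' : ((1 : ℤ) : ℂ) = (T.D.δ (Blocks.trivIrr G) : ℂ) := by rw [← h]; simp [Blocks.trivIrr]
    exact (Int.cast_injective h').symm
  obtain ⟨χ, hχ, hne⟩ := Finset.exists_mem_ne (show 1 < T.D.X.card by rw [T.D.card_X, he]; norm_num)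
    (Blocks.trivIrr G)
  have hX : T.D.X = {Blocks.trivIrr G, χ} := by
    refine (Finset.eq_of_subset_of_card_le ?_ ?_).symm
    · exact Finset.insert_subset hT (Finset.singleton_subset_iff.mpr hχ)
    · rw [T.D.card_X, he, Finset.card_pair hne.symm]
  have hrel : T.D.ε * (charDegree (ψ : G → ℂ) : ℤ) = 1 + T.D.δ χ * (charDegree (χ : G → ℂ) : ℤ) := by
    have h := T.D.rel ψ hψ 1 hone
    simp only [BrauerReynolds.value_one] at h
    rw [hX, Finset.sum_pair hne.symm, hδT, BrauerReynolds.degree_triv] at h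
    push_cast at h
    rw [one_mul] at h
    exact_mod_cast h
  have hx := entry_mem T hne (T.D.dvdX χ hχ) (T.D.hδ χ hχ) (Int.modEq_iff_dvd.mp (T.D.degX χ hχ).symm)
    (T.D.valX χ hχ)
  rw [he, hc] at hx hy
  have h10 := key_two _ hx _ hy hrel.symm
  have hd : charDegree (χ : G → ℂ) = 10 ∧ T.D.δ χ = -1 := by
    rcases T.D.hδ χ hχ with e | e <;> rw [e] at h10 ⊢ <;> omega
  refine false_of_ten T (by norm_num) (by rw [he]) (χ := χ) (by rw [hd.1]) fun w hw hw1 => ?_
  have h := T.D.valX χ hχ w hw hw1 1 (one_mem _) hone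
  rw [mul_one, hd.2] at h
  rw [h]; norm_num

/-- The blocks with `|N : C| = 5` and `C(P) ≠ P`. -/
theorem false_five {n k : ℕ} (T : OrderCtx G n 11 [5, 11] 308 k)
    (hq : (n, k) ∈ ([(15840, 2), (23760, 3), (31680, 4), (47520, 6)] : List (ℕ × ℕ)))
    (he : T.D.e = 5) (hc : 1 + T.D.n * 11 = 144) : False := by
  have ht : T.D.t = 2 := by have := T.D.het; rw [he] at this; omega
  obtain ⟨ψ, hψ, hne, hy, s, hs, hrel⟩ := exists_exceptional T (by omega)
  rw [he, hc] at hy hs
  rw [hrel] at hy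
  have hk := List.all_eq_true.mp (key_five _ hq) s hs
  simp only [Bool.or_eq_true, Bool.not_eq_true', decide_eq_true_eq] at hk
  rcases hk with hk | hk
  · exact Bool.false_ne_true (hk.symm.trans (List.contains_iff_mem.mpr hy))
  rw [hk] at hrel
  have hk1 : k ≠ 1 ∧ ¬ 11 ∣ k := by
    simp only [List.mem_cons, List.not_mem_nil, or_false, Prod.mk.injEq] at hq
    omega
  refine false_of_small_exceptional T hk1.1 hk1.2 hψ hne ?_
  rcases T.D.hε with e | e <;> rw [e] at hrel <;> omega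

/-- A block with one exceptional character: its signed degrees. -/
theorem exists_block_ten {n k : ℕ} (T : OrderCtx G n 11 [5, 11] 308 k) (he : T.D.e = 10)
    (hc : 1 + T.D.n * 11 = 144) :
    T.D.t = 1 ∧ ∃ (E : Finset (IrrCharacter G)) (σ : IrrCharacter G → ℤ), E.card = 10 ∧
      Blocks.trivIrr G ∉ E ∧ insert (Blocks.trivIrr G) E = T.D.X ∪ T.D.Y ∧
      σ (Blocks.trivIrr G) = 1 ∧
      (∀ χ ∈ insert (Blocks.trivIrr G) E, (σ χ = 1 ∨ σ χ = -1) ∧
        ∀ v ∈ (T.P : Subgroup G), v ≠ 1 → ∀ y ∈ Subgroup.centralizer ((T.P : Subgroup G) : Set G),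
          ¬ 11 ∣ orderOf y → (χ : G → ℂ) (v * y) = σ χ) ∧
      (∀ χ ∈ E, σ χ * (charDegree (χ : G → ℂ) : ℤ) ∈ xList n 11 k 1440 [5, 11] 308) ∧
      (∀ g, ¬ 11 ∣ orderOf g → 1 + ∑ χ ∈ E, (σ χ : ℂ) * (χ : G → ℂ) g = 0) ∧
      ∑ χ ∈ E, σ χ * (charDegree (χ : G → ℂ) : ℤ) = -1 ∧
      1 + ∑ χ ∈ E, (σ χ * (charDegree (χ : G → ℂ) : ℤ)) ^ 2 ≤ (n : ℤ) := by
  have ht : T.D.t = 1 := by have := T.D.het; rw [he] at this; omega
  obtain ⟨E, σ, hEc, hET, hins, hσT, hprop, hx, hrel⟩ := exists_block_one T ht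
  rw [he, hc] at hx
  refine ⟨ht, E, σ, hEc.trans he, hET, hins, hσT, hprop, hx, hrel, ?_, ?_⟩
  · have h := hrel 1 not_dvd_order_one
    simp only [BrauerReynolds.value_one] at h
    have h' : ((1 + ∑ χ ∈ E, σ χ * (charDegree (χ : G → ℂ) : ℤ) : ℤ) : ℂ) = ((0 : ℤ) : ℂ) := by
      push_cast; exact h
    have := Int.cast_injective h'
    omega
  · have h := sum_degree_sq_lt hET
    rw [T.card_eq] at h
    refine le_trans (le_of_eq ?_) h
    congr 1
    refine Finset.sum_congr rfl fun χ hχ => ?_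
    rcases (hprop χ (Finset.mem_insert_of_mem hχ)).1 with e | e <;> rw [e] <;> ring

/-- Order 31680. -/
theorem false_31680 (T : OrderCtx G 31680 11 [5, 11] 308 2) (he : T.D.e = 10)
    (hc : 1 + T.D.n * 11 = 144) : False := by
  obtain ⟨-, E, σ, hEc, -, -, -, -, hx, -, hsum, hsq⟩ := exists_block_ten T he hc
  obtain ⟨na, nb, nc, nd, -, -, -, -, hn, hf⟩ := exists_counts_four E
    (fun χ => σ χ * (charDegree (χ : G → ℂ) : ℤ)) (-32) 45 (-120) 144
    (by norm_num) (by norm_num) (by norm_num) (by norm_num) (by norm_num) (by norm_num)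
    fun χ hχ => key_x31680 _ (hx χ hχ)
  rw [hf fun v => v] at hsum
  rw [hf fun v => v ^ 2] at hsq
  push_cast at hsum hsq
  have hk := (key_counts nb (by omega) nc (by omega) nd (by omega) (by omega)).1
  rw [show 10 - nb - nc - nd = na by omega] at hk
  have := (hk (by linarith) (by linarith)).1
  linarith

/-- Order 15840. -/
theorem false_15840 (T : OrderCtx G 15840 11 [5, 11] 308 1) (he : T.D.e = 10)
    (hc : 1 + T.D.n * 11 = 144) : False := by
  obtain ⟨ht, E, σ, hEc, hET, hins, hσT, hprop, hx, hrel, hsum, hsq⟩ := exists_block_ten T he hc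
  have hten : ∀ χ ∈ E, σ χ * (charDegree (χ : G → ℂ) : ℤ) ≠ -10 := fun χ hχ h => by
    obtain ⟨hs, hv⟩ := hprop χ (Finset.mem_insert_of_mem hχ)
    have hd : charDegree (χ : G → ℂ) = 10 ∧ σ χ = -1 := by
      rcases hs with e | e <;> rw [e] at h ⊢ <;> omega
    refine false_of_ten T (by norm_num) (by rw [he]; norm_num) (χ := χ) (by rw [hd.1]) fun w hw hw1 => ?_
    have h' := hv w hw hw1 1 (one_mem _) not_dvd_order_one
    rw [mul_one, hd.2] at h'
    rw [h']; norm_num
  have h4 : ∀ χ ∈ E, σ χ * (charDegree (χ : G → ℂ) : ℤ) = -32 ∨ σ χ * (charDegree (χ : G → ℂ) : ℤ) = 12 ∨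
      σ χ * (charDegree (χ : G → ℂ) : ℤ) = 45 ∨ σ χ * (charDegree (χ : G → ℂ) : ℤ) = -120 := fun χ hχ => by
    rcases key_x15840 _ (hx χ hχ) with h | h | h | h | h
    · exact absurd h (hten χ hχ)
    all_goals simp [h]
  obtain ⟨na, nb, nc, nd, ca, cb, cc, cd, hn, hf⟩ := exists_counts_four E
    (fun χ => σ χ * (charDegree (χ : G → ℂ) : ℤ)) (-32) 12 45 (-120)
    (by norm_num) (by norm_num) (by norm_num) (by norm_num) (by norm_num) (by norm_num) h4
  rw [hf fun v => v] at hsum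
  rw [hf fun v => v ^ 2] at hsq
  push_cast at hsum hsq
  obtain ⟨ea, eb, ec, ed⟩ : na = 5 ∧ nb = 2 ∧ nc = 3 ∧ nd = 0 := by
    have hk := (key_counts nb (by omega) nc (by omega) nd (by omega) (by omega)).2
    rw [show 10 - nb - nc - nd = na by omega] at hk
    exact hk (by linarith) (by linarith)
  subst ea eb ec ed
  refine false_of_counts T (Or.inl rfl) rfl ht hET hins hσT hprop hrel [(-32, 5), (12, 2), (45, 3)]
    (by decide) (by decide) ?_ ?_ key_row15840
  · simp only [List.mem_cons, List.not_mem_nil, or_false]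
    rintro q (rfl | rfl | rfl)
    · exact ca
    · exact cb
    · exact cc
  · intro χ hχ
    rcases h4 χ hχ with h | h | h | h
    rotate_left 3
    · exfalso
      rw [Finset.card_eq_zero, Finset.filter_eq_empty_iff] at cd
      exact cd hχ h
    all_goals simp [h]

/-- Order 47520. -/
theorem false_47520 (T : OrderCtx G 47520 11 [5, 11] 308 3) (he : T.D.e = 10)
    (hc : 1 + T.D.n * 11 = 144) : False := by
  obtain ⟨ht, E, σ, hEc, hET, hins, hσT, hprop, hx, hrel, hsum, hsq⟩ := exists_block_ten T he hc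
  obtain ⟨na, nb, nc, nd, ca, cb, cc, cd, hn, hf⟩ := exists_counts_four E
    (fun χ => σ χ * (charDegree (χ : G → ℂ) : ℤ)) (-32) 45 (-120) 144
    (by norm_num) (by norm_num) (by norm_num) (by norm_num) (by norm_num) (by norm_num)
    fun χ hχ => key_x47520 _ (hx χ hχ)
  rw [hf fun v => v] at hsum
  rw [hf fun v => v ^ 2] at hsq
  push_cast at hsum hsq
  obtain ⟨ea, eb, ec, ed⟩ : na = 5 ∧ nb = 3 ∧ nc = 1 ∧ nd = 1 := by
    have hk := (key_counts nb (by omega) nc (by omega) nd (by omega) (by omega)).1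
    rw [show 10 - nb - nc - nd = na by omega] at hk
    exact (hk (by linarith) (by linarith)).2
  subst ea eb ec ed
  refine false_of_counts T (Or.inr rfl) rfl ht hET hins hσT hprop hrel
    [(-32, 5), (-120, 1), (45, 3), (144, 1)] (by decide) (by decide) ?_ ?_ key_row47520
  · simp only [List.mem_cons, List.not_mem_nil, or_false]
    rintro q (rfl | rfl | rfl | rfl)
    · exact ca
    · exact cc
    · exact cb
    · exact cd
  · intro χ hχ
    rcases key_x47520 _ (hx χ hχ) with h | h | h | h <;> simp [h]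

omit [Fact (Nat.Prime 11)] in
/-- **The orders.** -/
theorem order_facts (hcomm : ¬ IsMulCommutative G) (h11 : 11 ∣ Nat.card G) (hdvd : Nat.card G ∣ 95040) :
    5 ∣ Nat.card G ∧ (3025 ≤ Nat.card G → Nat.card G = 7920 ∨ Nat.card G = 95040) := by
  haveI : Fact (Nat.Prime 11) := ⟨by norm_num⟩
  have hnp : ¬ (Nat.card G).Prime := fun h => by
    haveI := Fact.mk h
    haveI := isCyclic_of_prime_card (α := G) rfl
    exact hcomm ⟨⟨fun a b => (IsCyclic.commGroup (α := G)).mul_comm a b⟩⟩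
  obtain ⟨m, hm⟩ := h11
  have hm' : m ∣ 2 ^ 6 * 3 ^ 3 * 5 := by
    rw [hm] at hdvd
    exact Nat.dvd_of_mul_dvd_mul_left (by norm_num : 0 < 11) hdvd
  obtain ⟨x, y, hx, hy, rfl⟩ := Nat.dvd_mul.mp hm'
  obtain ⟨x1, x2, hx1, hx2, rfl⟩ := Nat.dvd_mul.mp hx
  obtain ⟨a, ha, rfl⟩ := (Nat.dvd_prime_pow Nat.prime_two).mp hx1
  obtain ⟨b, hb, rfl⟩ := (Nat.dvd_prime_pow Nat.prime_three).mp hx2
  obtain ⟨c, hc, rfl⟩ := (Nat.dvd_prime_pow Nat.prime_five).mp (show y ∣ 5 ^ 1 by rwa [pow_one])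
  rw [mul_comm] at hm
  obtain ⟨n, hn⟩ : ∃ n, n = 2 ^ a * 3 ^ b * 5 ^ c * 11 := ⟨_, rfl⟩
  rw [← hn] at hm
  have hkey : orderBad n 11 (qsOf n) 308 (excOf n) = true := by
    rw [hn]; exact key_orders11 a (by omega) b (by omega) c (by omega)
  have hpos : n ≤ 95040 := hm ▸ Nat.le_of_dvd (by norm_num) hdvd
  have hq : ∀ q ∈ qsOf n, q.Prime ∧ q ∣ n ∧ ¬ q * q ∣ n := by
    have h11n : ¬ 11 * 11 ∣ n := fun h => by
      have := h.trans (hm ▸ hdvd); norm_num at this
    have h11d : 11 ∣ n := hn ▸ dvd_mul_left 11 _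
    simp only [qsOf]
    split_ifs with h5
    · simp only [List.mem_cons, List.not_mem_nil, or_false]
      rintro q (rfl | rfl)
      · exact ⟨by norm_num, Nat.dvd_of_mod_eq_zero h5, fun h => by
          have := h.trans (hm ▸ hdvd); norm_num at this⟩
      · exact ⟨by norm_num, h11d, h11n⟩
    · simp only [List.mem_cons, List.not_mem_nil, or_false]
      rintro q rfl
      exact ⟨by norm_num, h11d, h11n⟩
  obtain ⟨k, T, hT⟩ := exists_ctx_of_orderBad hm 11 (qsOf n) 308 (excOf n) (by norm_num) (hm ▸ hnp)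
    (hn ▸ dvd_mul_left 11 _) (fun h => by have := h.trans (hm ▸ hdvd); norm_num at this) (by omega) hq hkey
  rw [hm]
  clear hkey hq hpos hn hdvd hnp hm'
  simp only [excOf] at hT
  split_ifs at hT with h660 h990 h7920 h11880 h15840 h23760 h31680 h47520 h95040
  · subst h660; norm_num
  · subst h990; norm_num
  · subst h7920; norm_num
  · subst h11880
    simp only [List.mem_cons, List.not_mem_nil, or_false, Prod.mk.injEq] at hT
    obtain ⟨hc', he, rfl⟩ := hT
    exact (false_11880 T he hc').elim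
  · subst h15840
    simp only [List.mem_cons, List.not_mem_nil, or_false, Prod.mk.injEq] at hT
    rcases hT with ⟨hc', he, rfl⟩ | ⟨hc', he, rfl⟩
    · exact (false_five T (by simp) he hc').elim
    · exact (false_15840 T he hc').elim
  · subst h23760
    simp only [List.mem_cons, List.not_mem_nil, or_false, Prod.mk.injEq] at hT
    obtain ⟨hc', he, rfl⟩ := hT
    exact (false_five T (by simp) he hc').elim
  · subst h31680
    simp only [List.mem_cons, List.not_mem_nil, or_false, Prod.mk.injEq] at hT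
    rcases hT with ⟨hc', he, rfl⟩ | ⟨hc', he, rfl⟩
    · exact (false_five T (by simp) he hc').elim
    · exact (false_31680 T he hc').elim
  · subst h47520
    simp only [List.mem_cons, List.not_mem_nil, or_false, Prod.mk.injEq] at hT
    rcases hT with ⟨hc', he, rfl⟩ | ⟨hc', he, rfl⟩
    · exact (false_five T (by simp) he hc').elim
    · exact (false_47520 T he hc').elim
  · subst h95040; norm_num
  · simp at hT

end CfsgLib.M12Order
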