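import Cfsg.Agent.Lib.M12Order.TwoCentralCheck
import Cfsg.Agent.Lib.M12Order.Basic

/-!
# An 11-block with `|N : C| = 10` at a 2-central involution
-/

set_option autoImplicit false
set_option linter.unusedSectionVars false
set_option linter.style.haveILetI false

namespace CfsgLib.M12Order

open Cfsg
open scoped ComplexConjugate CfsgLib.Char
open CfsgLib CfsgLib.BrauerTuan
open scoped _root_.Classical

universe u

variable {G : Type u} [Group G] [Fintype G] [IsSimpleGroup G] [Fact (Nat.Prime 11)]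

/-- Outside the block, the sum over the sections vanishes. -/
theorem exists_sections {n B k : ℕ} {qs : List ℕ} (T : OrderCtx G n 11 qs B k) (hk : k = 1 ∨ k = 3)
    (ht : T.D.t = 1) :
    ∃ v y : G, v ∈ (T.P : Subgroup G) ∧ v ≠ 1 ∧ y ∈ Subgroup.centralizer ((T.P : Subgroup G) : Set G) ∧
      ¬ 11 ∣ orderOf y ∧
      ∀ χ : IrrCharacter G, χ ∉ T.D.X ∪ T.D.Y →
        ∑ l ∈ Finset.range k, (χ : G → ℂ) (v * y ^ l) = 0 := by
  obtain ⟨E, σ, hEc, hET, hins, hσT, hprop, -, -⟩ := exists_block_one T ht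
  obtain ⟨C, hC⟩ : ∃ C, C = Subgroup.centralizer ((T.P : Subgroup G) : Set G) := ⟨_, rfl⟩
  obtain ⟨v', hv'⟩ := exists_prime_orderOf_dvd_card' (G := (T.P : Subgroup G)) 11 (by rw [T.card_P])
  have hvo : orderOf (v' : G) = 11 := by rw [Subgroup.orderOf_coe]; exact hv'
  obtain ⟨v, hvdef⟩ : ∃ v, v = (v' : G) := ⟨_, rfl⟩
  rw [← hvdef] at hvo
  have hvP : v ∈ (T.P : Subgroup G) := hvdef ▸ v'.2
  have hv1 : v ≠ 1 := fun e => by rw [e, orderOf_one] at hvo; omega
  obtain ⟨y, hyC, hyo⟩ : ∃ y, y ∈ C ∧ orderOf y = k := by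
    rcases hk with rfl | rfl
    · exact ⟨1, one_mem _, orderOf_one⟩
    · haveI : Fact (Nat.Prime 3) := ⟨Nat.prime_three⟩
      obtain ⟨y, hy⟩ := exists_prime_orderOf_dvd_card' (G := C) 3 (by rw [hC, T.card_C]; norm_num)
      exact ⟨y, y.2, by rw [Subgroup.orderOf_coe]; exact hy⟩
  have hcop : Nat.Coprime k 11 := by rcases hk with rfl | rfl <;> norm_num
  have hyr : ¬ 11 ∣ orderOf y := by rw [hyo]; rcases hk with rfl | rfl <;> norm_num
  have hvy : Commute v y := Subgroup.mem_centralizer_iff.mp (hC ▸ hyC) v hvP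
  have hvC : v ∈ C := by
    rw [hC]
    haveI : IsCyclic (T.P : Subgroup G) := isCyclic_of_prime_card T.card_P
    exact Subgroup.mem_centralizer_iff.mpr fun c hc =>
      congrArg Subtype.val ((IsCyclic.commGroup (α := (T.P : Subgroup G))).mul_comm ⟨c, hc⟩ ⟨v, hvP⟩)
  have hord : orderOf (v * y) = 11 * k := by
    rw [hvy.orderOf_mul_eq_mul_orderOf_of_coprime (by rw [hvo, hyo]; exact hcop.symm), hvo, hyo]
  have hzC : Subgroup.zpowers (v * y) = C := by
    refine Subgroup.eq_of_le_of_card_ge (Subgroup.zpowers_le.mpr (mul_mem hvC hyC)) ?_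
    rw [Nat.card_zpowers, hord, hC, T.card_C]
  have hcommC : ∀ a ∈ C, ∀ b ∈ C, a * b = b * a := fun a ha b hb => by
    rw [← hzC] at ha hb
    obtain ⟨i, rfl⟩ := Subgroup.mem_zpowers_iff.mp ha
    obtain ⟨j, rfl⟩ := Subgroup.mem_zpowers_iff.mp hb
    exact (((Commute.refl (v * y)).zpow_left i).zpow_right j).eq
  have hwo : orderOf (v ^ k) = 11 := by
    rw [Nat.Coprime.orderOf_pow (by rw [hvo]; exact hcop.symm), hvo]
  have hzw : Subgroup.zpowers (v ^ k) = (T.P : Subgroup G) :=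
    Subgroup.eq_of_le_of_card_ge (Subgroup.zpowers_le.mpr (pow_mem hvP k))
      (by rw [Nat.card_zpowers, hwo, T.card_P])
  have hpowk : ∀ l : ℕ, (v * y ^ l) ^ k = v ^ k := fun l => by
    rw [(hvy.pow_right l).mul_pow, ← pow_mul, mul_comm l k, pow_mul, ← hyo, pow_orderOf_eq_one, one_pow,
      mul_one]
  have hfix : ∀ g : G, g * v ^ k = v ^ k * g → g ∈ C := fun g hg => by
    rw [hC]
    refine Subgroup.mem_centralizer_iff.mpr fun q hq => ?_
    rw [← hzw] at hq
    obtain ⟨i, rfl⟩ := Subgroup.mem_zpowers_iff.mp hq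
    exact ((show Commute g (v ^ k) from hg).zpow_right i).symm.eq
  have hcent : ∀ l : ℕ, Subgroup.centralizer ({v * y ^ l} : Set G) = C := fun l => by
    refine le_antisymm (fun g hg => hfix g ?_) fun g hg => ?_
    · rw [← hpowk l]
      exact ((show Commute g (v * y ^ l) from Subgroup.mem_centralizer_singleton_iff.mp hg).pow_right k).eq
    · exact Subgroup.mem_centralizer_singleton_iff.mpr (hcommC g hg _ (mul_mem hvC (pow_mem hyC l)))
  have hconj : ∀ l < k, ∀ m < k, IsConj (v * y ^ l) (v * y ^ m) → l = m := fun l hl m hm h => by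
    obtain ⟨g, hg⟩ := isConj_iff.mp h
    have h2 : g * v ^ k * g⁻¹ = v ^ k := by
      rw [← hpowk l, ← conj_pow, hg, hpowk m, hpowk l]
    have hgC := hfix g (mul_inv_eq_iff_eq_mul.mp h2)
    rw [hcommC g hgC _ (mul_mem hvC (pow_mem hyC l)), mul_inv_cancel_right] at hg
    have h3 := mul_left_cancel hg
    rw [pow_inj_mod, hyo, Nat.mod_eq_of_lt hl, Nat.mod_eq_of_lt hm] at h3
    exact h3
  refine ⟨v, y, hvP, hv1, hC ▸ hyC, hyr, fun χ hχ => ?_⟩
  obtain ⟨S, hS⟩ : ∃ S : IrrCharacter G → ℂ,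
      S = fun ξ : IrrCharacter G => ∑ l ∈ Finset.range k, (ξ : G → ℂ) (v * y ^ l) := ⟨_, rfl⟩
  have horth : ∑ ξ : IrrCharacter G, S ξ * conj (S ξ) = ((11 * k * k : ℕ) : ℂ) := by
    simp only [hS, map_sum, Finset.sum_mul_sum]
    rw [Finset.sum_comm]
    rw [Finset.sum_congr rfl (g := fun _ => ((11 * k : ℕ) : ℂ)) fun l hl => ?_]
    · rw [Finset.sum_const, Finset.card_range, nsmul_eq_mul]; push_cast; ring
    rw [Finset.sum_comm, Finset.sum_eq_single l]
    · rw [Char.column_orthogonality, if_pos (IsConj.refl _), hcent, hC, T.card_C]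
    · intro m hm hml
      rw [Char.column_orthogonality, if_neg fun h =>
        hml (hconj l (Finset.mem_range.mp hl) m (Finset.mem_range.mp hm) h).symm]
    · exact fun h => absurd hl h
  have hin : ∀ ξ ∈ T.D.X ∪ T.D.Y, S ξ * conj (S ξ) = ((k * k : ℕ) : ℂ) := fun ξ hξ => by
    obtain ⟨hs, hv⟩ := hprop ξ (hins ▸ hξ)
    have : S ξ = (k : ℂ) * (σ ξ : ℂ) := by
      simp only [hS]
      rw [Finset.sum_congr rfl (g := fun _ => (σ ξ : ℂ)) fun l _ =>
        hv v hvP hv1 (y ^ l) (hC ▸ pow_mem hyC l) (fun h => hyr (h.trans (orderOf_pow_dvd l))),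
        Finset.sum_const, Finset.card_range, nsmul_eq_mul]
    rw [this, map_mul, Complex.conj_natCast, map_intCast]
    rcases hs with e | e <;> rw [e] <;> push_cast <;> ring
  have he : T.D.e = 10 := by have := T.D.het; rw [ht] at this; omega
  have hcard : (T.D.X ∪ T.D.Y).card = 11 := by
    rw [Finset.card_union_of_disjoint T.D.disj, T.D.card_X, T.D.card_Y, ht, he]
  rw [← Finset.sum_add_sum_compl (T.D.X ∪ T.D.Y), Finset.sum_congr rfl hin, Finset.sum_const, hcard,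
    nsmul_eq_mul] at horth
  have hzero : ∑ ξ ∈ (T.D.X ∪ T.D.Y)ᶜ, S ξ * conj (S ξ) = 0 := by
    push_cast at horth
    linear_combination horth
  have hre := congrArg Complex.re hzero
  rw [Complex.re_sum, Complex.zero_re] at hre
  have := (Finset.sum_eq_zero_iff_of_nonneg fun ξ _ => by
    rw [Complex.mul_conj, Complex.ofReal_re]; exact Complex.normSq_nonneg _).mp hre χ
      (Finset.mem_compl.mpr hχ)
  rw [Complex.mul_conj, Complex.ofReal_re, Complex.normSq_eq_zero, hS] at this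
  exact this

/-- No 2-central involution fits the block. -/
theorem false_of_counts {n B k : ℕ} {qs : List ℕ} (T : OrderCtx G n 11 qs B k) (hk : k = 1 ∨ k = 3)
    (hn : n = 15840 * k) (ht : T.D.t = 1) {E : Finset (IrrCharacter G)} {σ : IrrCharacter G → ℤ}
    (hET : Blocks.trivIrr G ∉ E) (hins : insert (Blocks.trivIrr G) E = T.D.X ∪ T.D.Y)
    (hσT : σ (Blocks.trivIrr G) = 1)
    (hprop : ∀ χ ∈ insert (Blocks.trivIrr G) E, (σ χ = 1 ∨ σ χ = -1) ∧
      ∀ v ∈ (T.P : Subgroup G), v ≠ 1 → ∀ y ∈ Subgroup.centralizer ((T.P : Subgroup G) : Set G),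
        ¬ 11 ∣ orderOf y → (χ : G → ℂ) (v * y) = σ χ)
    (hrel : ∀ g, ¬ 11 ∣ orderOf g → 1 + ∑ χ ∈ E, (σ χ : ℂ) * (χ : G → ℂ) g = 0)
    (l : List (ℤ × ℕ)) (hnd : (l.map Prod.fst).Nodup)
    (hl : ∀ q ∈ l, q.1 ≠ 0 ∧ 1440 % q.1.natAbs = 0)
    (hcount : ∀ q ∈ l, (E.filter fun χ => σ χ * (charDegree (χ : G → ℂ) : ℤ) = q.1).card = q.2)
    (hmem : ∀ χ ∈ E, σ χ * (charDegree (χ : G → ℂ) : ℤ) ∈ l.map Prod.fst)
    (hkey : ∀ m < 45 * k + 1, (45 * k) % m = 0 → noRow2 n k (32 * m) l = true) : False := by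
  haveI : Fact (Nat.Prime 2) := ⟨Nat.prime_two⟩
  have hGn := T.card_eq
  have hdvd32 : 2 ^ 5 ∣ Nat.card G := ⟨495 * k, by rw [hGn, hn]; ring⟩
  have hndvd : ¬ 2 ^ (5 + 1) ∣ Nat.card G := by rw [hGn, hn]; rcases hk with rfl | rfl <;> norm_num
  obtain ⟨g, hg2, hg1, hc32, -⟩ := exists_central_involution (b := 5) (by norm_num) hdvd32
  have hgo : orderOf g = 2 := orderOf_eq_prime (by rw [pow_two, hg2]) hg1
  have hreg : ¬ 11 ∣ orderOf g := by rw [hgo]; norm_num
  obtain ⟨c, hc⟩ : ∃ c, c = Nat.card (Subgroup.centralizer ({g} : Set G)) := ⟨_, rfl⟩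
  rw [← hc] at hc32
  -- `11` does not divide the order of the centraliser
  have hc11 : ¬ 11 ∣ c := by
    intro h
    obtain ⟨w, hw⟩ := exists_prime_orderOf_dvd_card' (G := Subgroup.centralizer ({g} : Set G)) 11 (hc ▸ h)
    have hwo : orderOf (w : G) = 11 := by rw [Subgroup.orderOf_coe, hw]
    obtain ⟨Q, hQ⟩ := (IsPGroup.of_card (p := 11) (n := 1)
      (by rw [Nat.card_zpowers, hwo, pow_one] :
        Nat.card (Subgroup.zpowers (w : G)) = 11 ^ 1)).exists_le_sylow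
    obtain ⟨b, hb⟩ := MulAction.exists_smul_eq G Q T.P
    have hvP : b * w * b⁻¹ ∈ (T.P : Subgroup G) := by
      rw [← hb, Sylow.coe_subgroup_smul]
      exact Subgroup.smul_mem_pointwise_smul _ (MulAut.conj b) _ (hQ (Subgroup.mem_zpowers _))
    have hzp : Subgroup.zpowers (b * w * b⁻¹) = (T.P : Subgroup G) := by
      refine Subgroup.eq_of_le_of_card_ge (Subgroup.zpowers_le.mpr hvP) ?_
      rw [Nat.card_zpowers, show orderOf (b * (w : G) * b⁻¹) = 11 from
        (MulEquiv.orderOf_eq (MulAut.conj b) (w : G)).trans hwo, T.card_P]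
    have hgv : Commute (b * g * b⁻¹) (b * w * b⁻¹) := by
      have h1 : g * (w : G) = w * g := (Subgroup.mem_centralizer_singleton_iff.mp w.2).symm
      show b * g * b⁻¹ * (b * w * b⁻¹) = b * w * b⁻¹ * (b * g * b⁻¹)
      rw [show b * g * b⁻¹ * (b * w * b⁻¹) = b * (g * w) * b⁻¹ by group, h1]
      group
    have hgC : b * g * b⁻¹ ∈ Subgroup.centralizer ((T.P : Subgroup G) : Set G) := by
      rw [Subgroup.mem_centralizer_iff]
      intro q hq
      rw [← hzp] at hq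
      obtain ⟨i, rfl⟩ := Subgroup.mem_zpowers_iff.mp hq
      exact (hgv.zpow_right i).symm.eq
    have hd : orderOf g ∣ 11 * k := by
      rw [← T.card_C, show orderOf g = orderOf (b * g * b⁻¹) from
        (MulEquiv.orderOf_eq (MulAut.conj b) g).symm]
      exact Subgroup.orderOf_dvd_natCard _ hgC
    rw [hgo] at hd
    rcases hk with rfl | rfl <;> norm_num at hd
  have hcdvd : c ∣ n := by rw [hc, ← hGn]; exact Subgroup.card_subgroup_dvd_card _
  obtain ⟨m, hm⟩ := hc32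
  have hm45 : m ∣ 45 * k := by
    have h1 : c ∣ 1440 * k := by
      refine ((Nat.Prime.coprime_iff_not_dvd (by norm_num : Nat.Prime 11)).mpr hc11).symm.dvd_of_dvd_mul_left ?_
      rw [show 11 * (1440 * k) = n by rw [hn]; ring]
      exact hcdvd
    rw [hm, show 1440 * k = 2 ^ 5 * (45 * k) by ring] at h1
    exact Nat.dvd_of_mul_dvd_mul_left (by norm_num) h1
  have hk0 : 0 < k := by rcases hk with rfl | rfl <;> norm_num
  have hkey' := hkey m (Nat.lt_succ_of_le (Nat.le_of_dvd (by omega) hm45)) (Nat.mod_eq_zero_of_dvd hm45)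
  rw [show 32 * m = c by rw [hm]; norm_num] at hkey'
  have hc0 : 0 < c := hc ▸ Nat.card_pos
  obtain ⟨i, hi⟩ : ∃ i, i = (Subgroup.centralizer ({g} : Set G)).index := ⟨_, rfl⟩
  have hci : c * i = n := by rw [hc, hi, Subgroup.card_mul_index, hGn]
  have hidx : i = n / c := by rw [← hci, Nat.mul_div_cancel_left _ hc0]
  -- the values
  have hint : ∀ χ : IrrCharacter G, ∃ a : ℤ, (χ : G → ℂ) g = a := fun χ =>
    exists_int_of_involution (Char.isCharacter_of_isIrr χ.2) hg2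
  choose a ha using hint
  have haT : a (Blocks.trivIrr G) = 1 := by
    have h := ha (Blocks.trivIrr G)
    simp [Blocks.trivIrr] at h
    exact_mod_cast h.symm
  obtain ⟨x, hx⟩ : ∃ x : IrrCharacter G → ℤ, x = fun χ : IrrCharacter G =>
      σ χ * (charDegree (χ : G → ℂ) : ℤ) := ⟨_, rfl⟩
  have hxfacts : ∀ χ ∈ E, sgn2 (x χ) = σ χ ∧ (x χ).natAbs = charDegree (χ : G → ℂ) := by
    intro χ hχ
    have hd := Char.OddDegreeSum.charDegree_pos χ
    simp only [hx]
    rcases (hprop χ (Finset.mem_insert_of_mem hχ)).1 with e | e <;> rw [e]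
    · exact ⟨by rw [sgn2, if_pos (by omega)], by omega⟩
    · exact ⟨by rw [sgn2, if_neg (by omega)], by omega⟩
  have hd1440 : ∀ χ ∈ E, 1440 % charDegree (χ : G → ℂ) = 0 := fun χ hχ => by
    obtain ⟨q, hq, hq1⟩ := List.mem_map.mp (hmem χ hχ)
    have h := (hl q hq).2
    rwa [hq1, show (σ χ * (charDegree (χ : G → ℂ) : ℤ)).natAbs = charDegree (χ : G → ℂ) by
      have := (hxfacts χ hχ).2; rwa [hx] at this] at h
  have hQ := column_bound_one (insert (Blocks.trivIrr G) E) g a fun χ _ => ha χ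
  rw [Finset.sum_insert hET, haT, ← hc, one_pow, Finset.sum_congr rfl fun χ _ => pow_two (a χ)] at hQ
  have hopt : ∀ χ ∈ E, (σ χ * a χ, a χ * a χ,
      σ χ * (a χ * a χ) * ((1440 / charDegree (χ : G → ℂ) : ℕ) : ℤ)) ∈ opts2 n c (x χ) := by
    intro χ hχ
    obtain ⟨hs, hd⟩ := hxfacts χ hχ
    rw [opts2, hd, hs]
    refine List.mem_map.mpr ⟨a χ, ?_, rfl⟩
    have hne : χ ≠ Blocks.trivIrr G := fun e => hET (e ▸ hχ)
    obtain ⟨b1, b2⟩ := UThreeUnique.norm_bound (ha χ)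
    obtain ⟨n1, n2⟩ := UThreeUnique.value_ne T.noncomm hne hg1 (ha χ)
    obtain ⟨j, hj⟩ := involution_value_mod_four T.noncomm (Char.isCharacter_of_isIrr χ.2) hg2
      (BrauerReynolds.value_one χ)
    rw [ha χ] at hj
    have hj' := Int.cast_injective hj
    have hsq : a χ * a χ ≤ (c : ℤ) := by
      have := Finset.single_le_sum (f := fun ξ => a ξ * a ξ) (fun ξ _ => mul_self_nonneg (a ξ)) hχ
      omega
    simp only [vals2, List.mem_filter, List.mem_map, List.mem_range, Bool.and_eq_true, Bool.or_eq_true,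
      decide_eq_true_eq]
    refine ⟨⟨(a χ + (charDegree (χ : G → ℂ) : ℤ) - 1).toNat, by omega, by omega⟩,
      ⟨⟨hsq, by omega⟩, ?_⟩, ?_⟩
    · rw [← hidx, hi]
      exact Int.emod_eq_zero_of_dvd (omega_dvd (ha χ))
    · by_cases h32 : charDegree (χ : G → ℂ) = 32
      · right
        have h := Char.defect_zero_vanish χ.2 (p := 2) (n := 5) (d := 32)
          (by rw [BrauerReynolds.value_one, h32]) hdvd32 hndvd (by norm_num) (by rw [hgo] : 2 ∣ orderOf g)
        rw [ha χ] at h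
        exact_mod_cast h
      · exact Or.inl h32
  have hstates := mem_states2 (N := n) (c := c) (x := x) (fun χ => σ χ * a χ) (fun χ => a χ * a χ)
    (fun χ => σ χ * (a χ * a χ) * ((1440 / charDegree (χ : G → ℂ) : ℕ) : ℤ)) l hnd E
    (fun q hq => by simp only [hx]; exact hcount q hq) (fun χ hχ => by simp only [hx]; exact hmem χ hχ)
    hopt (fun χ _ => mul_self_nonneg (a χ)) (by omega)
  -- the relation
  have hS : 1 + ∑ χ ∈ E, σ χ * a χ = 0 := by
    have h := hrel g hreg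
    rw [Finset.sum_congr rfl (g := fun χ => (((σ χ * a χ : ℤ)) : ℂ)) fun χ _ => by
      rw [ha χ, Int.cast_mul], ← Int.cast_sum] at h
    exact_mod_cast h
  -- the class multiplication constants
  obtain ⟨v, y, hvP, hv1, hyC, hyr, hout⟩ := exists_sections T hk ht
  obtain ⟨pr, hpr⟩ : ∃ pr : ℕ, pr = ∑ j ∈ Finset.range k,
      Nat.card {q : G × G // IsConj g q.1 ∧ IsConj g q.2 ∧ q.1 * q.2 = v * y ^ j} := ⟨_, rfl⟩
  obtain ⟨Z, hZ⟩ : ∃ Z : ℂ,
      Z = ∑ χ ∈ E, (σ χ : ℂ) * ((a χ : ℂ) * a χ) / (charDegree (χ : G → ℂ) : ℂ) := ⟨_, rfl⟩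
  have hcm : (pr : ℂ) = (i : ℂ) * (i : ℂ) / (n : ℂ) * ((k : ℂ) * (1 + Z)) := by
    rw [hpr, Nat.cast_sum, Finset.sum_congr rfl fun j _ => Char.class_mult g g (v * y ^ j), ← hi, hGn,
      ← Finset.mul_sum, Finset.sum_comm]
    congr 1
    rw [← Finset.sum_subset (Finset.subset_univ (T.D.X ∪ T.D.Y)) fun χ _ hχ => by
      rw [← Finset.sum_div, ← Finset.mul_sum, ← map_sum, hout χ hχ, map_zero, mul_zero, zero_div]]
    rw [← hins, Finset.sum_congr rfl (g := fun χ : IrrCharacter G =>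
        (k : ℂ) * ((σ χ : ℂ) * ((a χ : ℂ) * a χ) / (charDegree (χ : G → ℂ) : ℂ))) fun χ hχ => by
      rw [Finset.sum_congr rfl (g := fun _ => (a χ : ℂ) * a χ * (σ χ : ℂ) / (charDegree (χ : G → ℂ) : ℂ))
        fun j _ => by
          rw [(hprop χ hχ).2 v hvP hv1 (y ^ j) (pow_mem hyC j)
            (fun h => hyr (h.trans (orderOf_pow_dvd j))), ha χ, BrauerReynolds.value_one, map_intCast],
        Finset.sum_const, Finset.card_range, nsmul_eq_mul]
      ring,
      ← Finset.mul_sum, Finset.sum_insert hET, haT, hσT, BrauerReynolds.degree_triv, hZ]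
    norm_num
  have hW : ((∑ χ ∈ E, σ χ * (a χ * a χ) * ((1440 / charDegree (χ : G → ℂ) : ℕ) : ℤ) : ℤ) : ℂ) =
      1440 * Z := by
    rw [hZ, Finset.mul_sum, Int.cast_sum]
    refine Finset.sum_congr rfl fun χ hχ => ?_
    have hd := Char.OddDegreeSum.charDegree_pos χ
    obtain ⟨q, hq⟩ := Nat.dvd_of_mod_eq_zero (hd1440 χ hχ)
    rw [hq, Nat.mul_div_cancel_left _ hd]
    have hq' : (1440 : ℂ) = (charDegree (χ : G → ℂ) : ℂ) * (q : ℂ) := by exact_mod_cast hq
    have hd0 : (charDegree (χ : G → ℂ) : ℂ) ≠ 0 := Nat.cast_ne_zero.mpr hd.ne'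
    push_cast
    rw [hq']
    field_simp
  generalize hWdef : (∑ χ ∈ E, σ χ * (a χ * a χ) * ((1440 / charDegree (χ : G → ℂ) : ℕ) : ℤ)) = W at hstates hW
  have hn0 : (n : ℂ) ≠ 0 := Nat.cast_ne_zero.mpr (hGn ▸ Nat.card_pos.ne')
  have hfinal : (pr : ℤ) * (1440 * (c : ℤ) * (c : ℤ)) = (k : ℤ) * (n : ℤ) * (1440 + W) := by
    have h : (((pr : ℤ) * (1440 * (c : ℤ) * (c : ℤ)) : ℤ) : ℂ) =
        (((k : ℤ) * (n : ℤ) * (1440 + W) : ℤ) : ℂ) := by
      push_cast
      rw [hW, hcm]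
      have hci' : (c : ℂ) * (i : ℂ) = (n : ℂ) := by exact_mod_cast hci
      field_simp
      linear_combination ((k : ℂ) * (1 + Z) * ((c : ℂ) * i + n)) * hci'
    exact Int.cast_injective h
  have hrow := List.all_eq_true.mp hkey' _ hstates
  simp only [Bool.or_eq_true, decide_eq_true_eq] at hrow
  rcases hrow with (h | h) | h
  · exact h hS
  · exact h hQ
  · exact h (by rw [← hfinal]; exact Int.mul_emod_left _ _)

end CfsgLib.M12Order
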