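import Cfsg.Agent.Lib.M12Order.Entries

/-!
# A checker for the values of the 11-block at a 2-central involution
-/

set_option autoImplicit false
set_option linter.unusedSectionVars false
set_option linter.style.haveILetI false

namespace CfsgLib.M12Order

/-- The possible values of a character of degree `d`; those of degree `32` vanish. -/
def vals2 (N c d : ℕ) : List ℤ :=
  ((List.range (2 * d)).map fun i : ℕ => (i : ℤ) + 1 - d).filter fun a =>
    decide (a * a ≤ (c : ℤ)) && decide (((d : ℤ) - a) % 4 = 0) &&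
      decide ((((N / c : ℕ) : ℤ) * a) % d = 0) && (decide (d ≠ 32) || decide (a = 0))

/-- The sign of a signed degree. -/
def sgn2 (x : ℤ) : ℤ := if 0 < x then 1 else -1

/-- The signed value, the square, and the weighted signed square. -/
def opts2 (N c : ℕ) (x : ℤ) : List (ℤ × ℤ × ℤ) :=
  (vals2 N c x.natAbs).map fun a =>
    (sgn2 x * a, a * a, sgn2 x * (a * a) * ((1440 / x.natAbs : ℕ) : ℤ))

/-- The sums, pruned by the squares. -/
def comb2 (c : ℕ) (A B : List (ℤ × ℤ × ℤ)) : List (ℤ × ℤ × ℤ) :=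
  (A.flatMap fun a => B.filterMap fun b =>
    if a.2.1 + b.2.1 ≤ (c : ℤ) then some (a.1 + b.1, a.2.1 + b.2.1, a.2.2 + b.2.2) else none).eraseDups

/-- The sums of exactly `n` options. -/
def layer2 (c : ℕ) (O : List (ℤ × ℤ × ℤ)) : ℕ → List (ℤ × ℤ × ℤ)
  | 0 => [(0, 0, 0)]
  | n + 1 => comb2 c O (layer2 c O n)

/-- The sums for signed degrees with multiplicities. -/
def states2 (N c : ℕ) : List (ℤ × ℕ) → List (ℤ × ℤ × ℤ)
  | [] => [(0, 0, 0)]
  | q :: r => comb2 c (layer2 c (opts2 N c q.1) q.2) (states2 N c r)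

/-- No values fit. -/
def noRow2 (N k c : ℕ) (l : List (ℤ × ℕ)) : Bool :=
  (states2 N c l).all fun s => decide (1 + s.1 ≠ 0) || decide (¬ 1 + s.2.1 ≤ (c : ℤ)) ||
    decide (((k : ℤ) * (N : ℤ) * (1440 + s.2.2)) % (1440 * (c : ℤ) * (c : ℤ)) ≠ 0)

theorem key_row15840 : ∀ m < 46, 45 % m = 0 →
    noRow2 15840 1 (32 * m) [(-32, 5), (12, 2), (45, 3)] = true := by decide +kernel

theorem key_row47520 : ∀ m < 136, 135 % m = 0 →
    noRow2 47520 3 (32 * m) [(-32, 5), (-120, 1), (45, 3), (144, 1)] = true := by decide +kernel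

theorem mem_comb2 {c : ℕ} {A B : List (ℤ × ℤ × ℤ)} {a b : ℤ × ℤ × ℤ} (ha : a ∈ A) (hb : b ∈ B)
    (h : a.2.1 + b.2.1 ≤ (c : ℤ)) : (a.1 + b.1, a.2.1 + b.2.1, a.2.2 + b.2.2) ∈ comb2 c A B := by
  rw [comb2, List.mem_eraseDups]
  exact List.mem_flatMap.mpr ⟨a, ha, List.mem_filterMap.mpr ⟨b, hb, by rw [if_pos h]⟩⟩

theorem mem_layer2 {ι : Type*} [DecidableEq ι] {c : ℕ} {O : List (ℤ × ℤ × ℤ)} (s : Finset ι)
    (S Q W : ι → ℤ) (h : ∀ i ∈ s, (S i, Q i, W i) ∈ O) (hQ0 : ∀ i ∈ s, 0 ≤ Q i)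
    (hQ : ∑ i ∈ s, Q i ≤ (c : ℤ)) :
    (∑ i ∈ s, S i, ∑ i ∈ s, Q i, ∑ i ∈ s, W i) ∈ layer2 c O s.card := by
  induction s using Finset.induction_on with
  | empty => simp [layer2]
  | insert a t ha ih =>
    rw [Finset.sum_insert ha] at hQ
    rw [Finset.sum_insert ha, Finset.sum_insert ha, Finset.sum_insert ha, Finset.card_insert_of_notMem ha,
      layer2]
    exact mem_comb2 (h a (Finset.mem_insert_self a t))
      (ih (fun i hi => h i (Finset.mem_insert_of_mem hi)) (fun i hi => hQ0 i (Finset.mem_insert_of_mem hi))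
        (by have := hQ0 a (Finset.mem_insert_self a t); omega)) hQ

theorem mem_states2 {ι : Type*} [DecidableEq ι] {N c : ℕ} {x : ι → ℤ} (S Q W : ι → ℤ) :
    ∀ (l : List (ℤ × ℕ)), (l.map Prod.fst).Nodup → ∀ s : Finset ι,
      (∀ q ∈ l, (s.filter fun i => x i = q.1).card = q.2) → (∀ i ∈ s, x i ∈ l.map Prod.fst) →
      (∀ i ∈ s, (S i, Q i, W i) ∈ opts2 N c (x i)) → (∀ i ∈ s, 0 ≤ Q i) → ∑ i ∈ s, Q i ≤ (c : ℤ) →
      (∑ i ∈ s, S i, ∑ i ∈ s, Q i, ∑ i ∈ s, W i) ∈ states2 N c l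
  | [], _, s, _, hx, _, _, _ => by
    have hs : s = ∅ := Finset.eq_empty_of_forall_notMem fun i hi => by simpa using hx i hi
    simp [hs, states2]
  | q :: r, hnd, s, hcount, hx, hopt, hQ0, hQ => by
    rw [List.map_cons, List.nodup_cons] at hnd
    obtain ⟨A, hA⟩ : ∃ A, A = s.filter fun i => x i = q.1 := ⟨_, rfl⟩
    obtain ⟨B, hB⟩ : ∃ B, B = s.filter fun i => ¬ x i = q.1 := ⟨_, rfl⟩
    have hsplit : ∀ f : ι → ℤ, ∑ i ∈ s, f i = ∑ i ∈ A, f i + ∑ i ∈ B, f i := fun f => by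
      rw [hA, hB, Finset.sum_filter_add_sum_filter_not]
    have hAs : ∀ i ∈ A, i ∈ s ∧ x i = q.1 := fun i hi => by rw [hA] at hi; exact Finset.mem_filter.mp hi
    have hBs : ∀ i ∈ B, i ∈ s ∧ ¬ x i = q.1 := fun i hi => by rw [hB] at hi; exact Finset.mem_filter.mp hi
    have hA0 : 0 ≤ ∑ i ∈ A, Q i := Finset.sum_nonneg fun i hi => hQ0 i (hAs i hi).1
    have hB0 : 0 ≤ ∑ i ∈ B, Q i := Finset.sum_nonneg fun i hi => hQ0 i (hBs i hi).1
    rw [hsplit Q] at hQ
    rw [hsplit S, hsplit Q, hsplit W, states2]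
    refine mem_comb2 (a := (_, _, _)) (b := (_, _, _)) ?_ ?_ hQ
    · rw [← hcount q (by simp), ← hA]
      exact mem_layer2 A S Q W (fun i hi => (hAs i hi).2 ▸ hopt i (hAs i hi).1)
        (fun i hi => hQ0 i (hAs i hi).1) (by omega)
    · refine mem_states2 S Q W r hnd.2 B (fun q' hq' => ?_) (fun i hi => ?_)
        (fun i hi => hopt i (hBs i hi).1) (fun i hi => hQ0 i (hBs i hi).1) (by omega)
      · rw [← hcount q' (List.mem_cons_of_mem q hq'), hB, Finset.filter_filter]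
        refine congrArg Finset.card (Finset.filter_congr fun i _ => ⟨fun h => h.2, fun h => ⟨fun e => ?_, h⟩⟩)
        exact hnd.1 (List.mem_map.mpr ⟨q', hq', h.symm.trans e⟩)
      · have := hx i (hBs i hi).1
        rw [List.map_cons, List.mem_cons] at this
        exact this.resolve_left (hBs i hi).2

end CfsgLib.M12Order
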